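import Mathlib
import Cfsg.Prelude.Def_FusionComponents
import Cfsg.Agent.Lead.PrimeIdxD
import Cfsg.Agent.Lead.FusionAutSys
import Cfsg.Agent.Lead.FusionExtT
import Cfsg.Agent.Lead.FusionStrongInvD

set_option autoImplicit false

/-!
# S5243 (Oliver's lemma on `p'`-quotients of `Aut_F(T)`), part 1: the auxiliary system

`E` is an invariant subsystem of `F` over `T`, and `K` is a normal subgroup of `Aut_F(T)` containing
`Aut_S(T)` and `Aut_E(T)`.  The system `olvSys` over `S` consists of the maps of `F` whose restriction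
to `P ⊓ T` is an element of `K` composed with a map of `E`.
-/

namespace Cfsg.Agent.OLV

open Cfsg Cfsg.FusionSystem Cfsg.Agent.Lead Cfsg.Agent.Lead.StrongInv Cfsg.Agent.Lead.PrimeIdx
open Cfsg.Agent.Lead.AutSys

variable {Ω : Type*} [Group Ω] {S T : Subgroup Ω}

/-- The data of the construction. -/
structure Setup (F : FusionSystem S) (E : FusionSystem T) (K : Subgroup (MulAut T)) : Prop where
  inv : E.IsInvariantIn F
  KF : K ≤ F.autGroup T
  KS : autInducedBy S T ≤ K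
  Knormal : ∀ a ∈ F.autGroup T, ∀ k ∈ K, a * k * a⁻¹ ∈ K
  EK : E.autGroup T ≤ K

section basic

variable {F : FusionSystem S} {E : FusionSystem T} {K : Subgroup (MulAut T)}

theorem Setup.le (h : Setup F E K) : T ≤ S := h.inv.2.1.1

theorem Setup.sc (h : Setup F E K) : F.StronglyClosed T := h.inv.2.1

theorem Setup.innK (h : Setup F E K) : Inn T ≤ K :=
  (Fusion.inn_le_autInducedBy h.le).trans h.KS

/-- The system over `T` of the restrictions of the elements of `K`. -/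
def olvA (h : Setup F E K) : FusionSystem T := autSys T K h.innK

theorem olvA_le (h : Setup F E K) : (olvA h).IsSubsystemOf F :=
  autSys_isSubsystemOf F T h.le K h.innK h.KF

theorem olv_SItop_F (h : Setup F E K) : SItop F E := by
  have hSI := SI_of_invariant F E h.inv
  intro P hPT φ hφ hφT ψ hψ
  exact hSI P T hPT le_rfl φ hφ hφT ψ hψ

theorem olv_SItop (h : Setup F E K) : SItop (olvA h) E := by
  intro P hPT φ hφ hφT ψ hψ
  exact olv_SItop_F h P hPT φ hφ hφT ψ (olvA_le h T hψ)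

theorem mem_olvA_top (h : Setup F E K) (γ : T →* Ω) :
    γ ∈ (olvA h).Hom T ↔ ∃ a ∈ K, ∀ t : T, γ t = ((a t : T) : Ω) := by
  unfold olvA
  rw [mem_autSys]
  constructor
  · rintro ⟨_, a, ha, hv⟩
    exact ⟨a, ha, fun t => hv t⟩
  · rintro ⟨a, ha, hv⟩
    exact ⟨le_rfl, a, ha, fun t => hv t⟩

/-- The system over `T` of the maps `a ∘ φ₀` of `F`, with `a ∈ K` and `φ₀` in `E`. -/
def olvT [Finite T] (h : Setup F E K) : FusionSystem T where
  Hom Q := {φ | φ ∈ F.Hom Q ∧ Good (olvA h) E Q φ}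
  le_of_mem := by
    rintro Q φ ⟨-, α, hα, φ₀, h₀, hv⟩
    exact ⟨(E.le_of_mem h₀).1, fun x => by rw [hv x]; exact ((olvA h).le_of_mem hα).2 _⟩
  injective_of_mem h' := F.injective_of_mem h'.1
  conj_mem hP hg := ⟨F.conj_mem (hP.trans h.le) (h.le hg),
    good_of_mem (olvA h) E le_rfl (E.conj_mem hP hg)⟩
  comp_mem := by
    rintro P Q φ ψ hφ hψ hh
    have hQT : Q ≤ T := by
      obtain ⟨-, α, hα, φ₀, h₀, hv⟩ := hψ
      exact (E.le_of_mem h₀).1
    exact ⟨F.comp_mem hφ.1 hψ.1 hh,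
      good_comp_top (olvA h) E (olv_SItop h) (stronglyClosed_top (olvA h)) hQT hφ.2 hψ.2 hh⟩
  inv_mem := by
    intro P φ hφ
    have hPT : P ≤ T := by
      obtain ⟨-, α, hα, φ₀, h₀, hv⟩ := hφ
      exact (E.le_of_mem h₀).1
    obtain ⟨ψ, hψ, hinv⟩ := F.inv_mem hφ.1
    exact ⟨ψ, ⟨hψ, good_inv_top (olvA h) E (olv_SItop h) (stronglyClosed_top (olvA h))
      hPT hφ.2 rfl (fun x _ => hinv x)⟩, hinv⟩

theorem mem_olvT [Finite T] (h : Setup F E K) {Q : Subgroup Ω} (φ : Q →* Ω) :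
    φ ∈ (olvT h).Hom Q ↔ φ ∈ F.Hom Q ∧ Good (olvA h) E Q φ := Iff.rfl

theorem olvT_le [Finite T] (h : Setup F E K) : (olvT h).IsSubsystemOf F := fun _ _ h' => h'.1

theorem le_olvT [Finite T] (h : Setup F E K) : E.IsSubsystemOf (olvT h) :=
  fun _ _ hφ => ⟨h.inv.1 _ hφ, good_of_mem (olvA h) E le_rfl hφ⟩

/-- Conjugation by an element of `S` on a subgroup of `T` lies in `olvT`. -/
theorem conj_mem_olvT [Finite T] (h : Setup F E K) {Q : Subgroup Ω} (hQT : Q ≤ T) {g : Ω}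
    (hg : g ∈ S) : conjHom Q g ∈ (olvT h).Hom Q := by
  refine ⟨F.conj_mem (hQT.trans h.le) hg, ?_⟩
  have hgN : g ∈ Subgroup.normalizer (T : Set Ω) := by
    have key : ∀ k ∈ S, ∀ t ∈ T, k * t * k⁻¹ ∈ T := by
      intro k hk t ht
      have hφ := F.conj_mem (P := T) (g := k) h.le hk
      exact h.sc.2 T le_rfl _ hφ ⟨t, ht⟩
    rw [Subgroup.mem_normalizer_iff]
    intro t
    constructor
    · exact key g hg t
    · intro ht
      have := key g⁻¹ (S.inv_mem hg) _ ht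
      have h2 : g⁻¹ * (g * t * g⁻¹) * g⁻¹⁻¹ = t := by group
      rwa [h2] at this
  have ha : conjAutHom T ⟨g, hgN⟩ ∈ K := h.KS (Fusion.conjAutHom_mem_autInducedBy T ⟨g, hgN⟩ hg)
  have hα : conjHom T g ∈ (olvA h).Hom T :=
    (mem_olvA_top h _).mpr ⟨_, ha, fun t => rfl⟩
  exact good_restrict_top (olvA h) E hα hQT

/-- The auxiliary system over `S`: the maps of `F` whose restriction to `P ⊓ T` lies in `olvT`. -/
def olvSys [Finite T] (h : Setup F E K) : FusionSystem S where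
  Hom P := {φ | φ ∈ F.Hom P ∧
    φ.comp (Subgroup.inclusion (inf_le_left : P ⊓ T ≤ P)) ∈ (olvT h).Hom (P ⊓ T)}
  le_of_mem h' := F.le_of_mem h'.1
  injective_of_mem h' := F.injective_of_mem h'.1
  conj_mem := by
    intro P g hP hg
    exact ⟨F.conj_mem hP hg, conj_mem_olvT h inf_le_right hg⟩
  comp_mem := by
    rintro P Q φ ψ ⟨hφ, hφ'⟩ ⟨hψ, hψ'⟩ hh
    refine ⟨F.comp_mem hφ hψ hh, ?_⟩
    have hh' : ∀ x : ↥(P ⊓ T), (φ.comp (Subgroup.inclusion (inf_le_left : P ⊓ T ≤ P))) x ∈ Q ⊓ T :=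
      fun x => Subgroup.mem_inf.mpr ⟨hh _, ((olvT h).le_of_mem hφ').2 x⟩
    exact (olvT h).comp_mem hφ' hψ' hh'
  inv_mem := by
    rintro P φ ⟨hφ, hφ'⟩
    obtain ⟨ψ, hψ, hinv⟩ := F.inv_mem hφ
    refine ⟨ψ, ⟨hψ, ?_⟩, hinv⟩
    obtain ⟨ψ', hψ', hinv'⟩ := (olvT h).inv_mem hφ'
    have heq : (φ.comp (Subgroup.inclusion (inf_le_left : P ⊓ T ≤ P))).range = φ.range ⊓ T := by
      apply le_antisymm
      · rintro _ ⟨x, rfl⟩
        exact Subgroup.mem_inf.mpr ⟨⟨_, rfl⟩, ((olvT h).le_of_mem hφ').2 x⟩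
      · rintro y hy
        obtain ⟨⟨x, rfl⟩, hyT⟩ := Subgroup.mem_inf.mp hy
        have hxT : (x : Ω) ∈ T := by
          have h1 := Fusion.map_mem_of_stronglyClosed F h.sc hψ ⟨φ x, ⟨x, rfl⟩⟩ hyT
          rwa [hinv x] at h1
        exact ⟨⟨x, Subgroup.mem_inf.mpr ⟨x.2, hxT⟩⟩, rfl⟩
    obtain ⟨χ', hχ', hχ'v⟩ := Fusion.exists_hom_of_eq (olvT h) heq hψ'
    have : ψ.comp (Subgroup.inclusion (inf_le_left : φ.range ⊓ T ≤ φ.range)) = χ' := by
      ext ⟨y, hy⟩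
      have hy' : y ∈ (φ.comp (Subgroup.inclusion (inf_le_left : P ⊓ T ≤ P))).range := heq ▸ hy
      obtain ⟨x, hx⟩ := hy'
      rw [hχ'v y (heq ▸ hy) hy]
      have e1 : (⟨y, heq ▸ hy⟩ : ↥(φ.comp (Subgroup.inclusion
          (inf_le_left : P ⊓ T ≤ P))).range) = ⟨_, ⟨x, rfl⟩⟩ := Subtype.ext hx.symm
      rw [e1, hinv' x]
      have e2 : (Subgroup.inclusion (inf_le_left : φ.range ⊓ T ≤ φ.range) ⟨y, hy⟩ : ↥φ.range) =
          ⟨φ (Subgroup.inclusion (inf_le_left : P ⊓ T ≤ P) x), ⟨_, rfl⟩⟩ := Subtype.ext hx.symm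
      show ψ (Subgroup.inclusion (inf_le_left : φ.range ⊓ T ≤ φ.range) ⟨y, hy⟩) = _
      rw [e2, hinv]
      rfl
    rw [this]
    exact hχ'

theorem mem_olvSys [Finite T] (h : Setup F E K) {P : Subgroup Ω} (φ : P →* Ω) :
    φ ∈ (olvSys h).Hom P ↔ φ ∈ F.Hom P ∧
      φ.comp (Subgroup.inclusion (inf_le_left : P ⊓ T ≤ P)) ∈ (olvT h).Hom (P ⊓ T) := Iff.rfl

theorem olvSys_le [Finite T] (h : Setup F E K) : (olvSys h).IsSubsystemOf F := fun _ _ h' => h'.1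

end basic

end Cfsg.Agent.OLV
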