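import Mathlib
import Cfsg.Prelude.Def_FusionComponents
import Cfsg.Agent.OLV.Basic
import Cfsg.Agent.Lead.FusionExt

set_option autoImplicit false

/-!
# S5243, part 2: first properties of the auxiliary system
-/

namespace Cfsg.Agent.OLV

open Cfsg Cfsg.FusionSystem Cfsg.Agent.Lead Cfsg.Agent.Lead.StrongInv Cfsg.Agent.Lead.PrimeIdx
open Cfsg.Agent.Lead.AutSys

variable {Ω : Type*} [Group Ω] {S T : Subgroup Ω}
variable {F : FusionSystem S} {E : FusionSystem T} {K : Subgroup (MulAut T)}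

/-- On subgroups of `T` the auxiliary system is `olvT`. -/
theorem olvSys_hom_of_le [Finite T] (h : Setup F E K) {Q : Subgroup Ω} (hQT : Q ≤ T) (φ : Q →* Ω) :
    φ ∈ (olvSys h).Hom Q ↔ φ ∈ (olvT h).Hom Q := by
  constructor
  · rintro ⟨-, hφ'⟩
    have heq : Q ⊓ T = Q := inf_eq_left.mpr hQT
    obtain ⟨χ', hχ', hv⟩ := Fusion.exists_hom_of_eq (olvT h) heq hφ'
    have : φ = χ' := by
      ext ⟨x, hx⟩
      rw [hv x (Subgroup.mem_inf.mpr ⟨hx, hQT hx⟩) hx]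
      rfl
    rw [this]
    exact hχ'
  · intro hφ
    exact ⟨olvT_le h Q hφ, Fusion.restrict_mem (olvT h) hφ inf_le_left⟩

/-- A map of `F` between subgroups of `T` which is `a ∘ φ₀` lies in `olvT`. -/
theorem mem_olvT_of_eq [Finite T] (h : Setup F E K) {Q : Subgroup Ω} {φ : Q →* Ω} (hφ : φ ∈ F.Hom Q)
    (a : MulAut T) (ha : a ∈ K) (φ₀ : Q →* Ω) (h₀ : φ₀ ∈ E.Hom Q)
    (hv : ∀ x : Q, φ x = ((a ⟨φ₀ x, (E.le_of_mem h₀).2 x⟩ : T) : Ω)) : φ ∈ (olvT h).Hom Q :=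
  ⟨hφ, T.subtype.comp a.toMonoidHom, (mem_olvA_top h _).mpr ⟨a, ha, fun _ => rfl⟩, φ₀, h₀, hv⟩

/-- The shape of the maps of `olvT`. -/
theorem exists_of_mem_olvT [Finite T] (h : Setup F E K) {Q : Subgroup Ω} {φ : Q →* Ω}
    (hφ : φ ∈ (olvT h).Hom Q) :
    ∃ a ∈ K, ∃ (φ₀ : Q →* Ω) (h₀ : φ₀ ∈ E.Hom Q),
      ∀ x : Q, φ x = ((a ⟨φ₀ x, (E.le_of_mem h₀).2 x⟩ : T) : Ω) := by
  obtain ⟨-, α, hα, φ₀, h₀, hv⟩ := hφ
  obtain ⟨a, ha, hav⟩ := (mem_olvA_top h α).mp hα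
  exact ⟨a, ha, φ₀, h₀, fun x => by rw [hv x, hav]⟩

/-- The automorphisms of `T` in `olvT` are the elements of `K`. -/
theorem olvT_autGroup [Finite T] (h : Setup F E K) : (olvT h).autGroup T = K := by
  ext a
  rw [Fusion.mem_autGroup_iff _ le_rfl]
  constructor
  · intro ha
    obtain ⟨b, hb, φ₀, h₀, hv⟩ := exists_of_mem_olvT h ha
    have hr : φ₀.range = T :=
      (Fusion.weaklyClosed_of_stronglyClosed E (stronglyClosed_top E)).2 φ₀ h₀
    obtain ⟨c, hc, hcv⟩ := Fusion.exists_aut_of_range_eq E h₀ hr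
    have : a = b * c := by
      ext t
      have h1 := hv t
      have h2 : (⟨φ₀ t, (E.le_of_mem h₀).2 t⟩ : T) = c t := Subtype.ext (hcv t).symm
      rw [h2] at h1
      exact h1
    rw [this]
    exact K.mul_mem hb (h.EK hc)
  · intro ha
    refine mem_olvT_of_eq h ((Fusion.mem_autGroup_iff F h.le a).mp (h.KF ha)) a ha T.subtype
      (Fusion.subtype_mem E le_rfl) (fun x => rfl)

/-- The automorphisms of `S` in the auxiliary system: those whose restriction to `T` lies in `K`. -/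
theorem olvSys_autGroup_top [Finite T] (h : Setup F E K) (α : MulAut S) :
    α ∈ (olvSys h).autGroup S ↔ α ∈ F.autGroup S ∧
      ∃ a ∈ K, ∀ t : T, ((a t : T) : Ω) = ((α ⟨t, h.le t.2⟩ : S) : Ω) := by
  rw [Fusion.mem_autGroup_iff _ le_rfl, Fusion.mem_autGroup_iff F le_rfl]
  constructor
  · rintro ⟨hα, hα'⟩
    refine ⟨hα, ?_⟩
    have heq : S ⊓ T = T := inf_eq_right.mpr h.le
    obtain ⟨χ', hχ', hv⟩ := Fusion.exists_hom_of_eq (olvT h) heq hα'
    have hr : χ'.range = T :=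
      (Fusion.weaklyClosed_of_stronglyClosed (olvT h) (stronglyClosed_top (olvT h))).2 χ' hχ'
    obtain ⟨a, ha, hav⟩ := Fusion.exists_aut_of_range_eq (olvT h) hχ' hr
    rw [olvT_autGroup h] at ha
    refine ⟨a, ha, fun t => ?_⟩
    rw [hav t, hv t (Subgroup.mem_inf.mpr ⟨h.le t.2, t.2⟩) t.2]
    rfl
  · rintro ⟨hα, a, ha, hav⟩
    refine ⟨hα, ?_⟩
    have h1 : T.subtype.comp a.toMonoidHom ∈ (olvT h).Hom T :=
      (Fusion.mem_autGroup_iff _ le_rfl a).mp ((olvT_autGroup h).symm ▸ ha)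
    have h2 := Fusion.restrict_mem (olvT h) h1 (inf_le_right : S ⊓ T ≤ T)
    convert h2 using 1
    ext ⟨x, hx⟩
    have hxT : x ∈ T := (Subgroup.mem_inf.mp hx).2
    exact (hav ⟨x, hxT⟩).symm

end Cfsg.Agent.OLV
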