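import Mathlib
import Cfsg.Prelude.Def_FusionComponents
import Cfsg.Agent.OLV.Basic
import Cfsg.Agent.OLV.Props
import Cfsg.Agent.Lead.FusionAlperin2

set_option autoImplicit false

/-!
# S5243, piece P4c (helper8): `E ≤ F₀`

`E` normal in `F` over `T`, `K` as in `Setup`, `F₀` a subsystem of `F` of index prime to `p` which
contains the auxiliary system `olvSys` on the `F`-centric subgroups `P` with `P ⊓ T` `E`-centric.
Then `E ≤ F₀`: by Alperin's theorem (inductive form) for `E` and the system `E ∩ F₀` over `T`.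
-/

namespace Cfsg.Agent.OLV

open Cfsg Cfsg.FusionSystem Cfsg.Agent.Lead Cfsg.Agent.Lead.StrongInv Cfsg.Agent.Lead.PrimeIdx
open Cfsg.Agent.Lead.AutSys

variable {Ω : Type*} [Group Ω] {S T : Subgroup Ω}

/-- The maps of `E` (over `T ≤ S`) that also lie in a system `F₀` over `S`. -/
def olvCap (E : FusionSystem T) (F₀ : FusionSystem S) (hTS : T ≤ S) : FusionSystem T where
  Hom P := {φ | φ ∈ E.Hom P ∧ φ ∈ F₀.Hom P}
  le_of_mem h := E.le_of_mem h.1
  injective_of_mem h := E.injective_of_mem h.1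
  conj_mem hP hg := ⟨E.conj_mem hP hg, F₀.conj_mem (hP.trans hTS) (hTS hg)⟩
  comp_mem hφ hψ hh := ⟨E.comp_mem hφ.1 hψ.1 hh, F₀.comp_mem hφ.2 hψ.2 hh⟩
  inv_mem := by
    intro P φ hφ
    obtain ⟨ψ, hψ, hinv⟩ := E.inv_mem hφ.1
    obtain ⟨ψ', hψ', hinv'⟩ := F₀.inv_mem hφ.2
    have hψψ' : ψ = ψ' := by
      ext ⟨y, x, rfl⟩
      rw [hinv x, hinv' x]
    exact ⟨ψ, ⟨hψ, hψψ' ▸ hψ'⟩, hinv⟩

theorem mem_olvCap (E : FusionSystem T) (F₀ : FusionSystem S) (hTS : T ≤ S) {P : Subgroup Ω}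
    (φ : P →* Ω) : φ ∈ (olvCap E F₀ hTS).Hom P ↔ φ ∈ E.Hom P ∧ φ ∈ F₀.Hom P := Iff.rfl

theorem mem_olvCap_autGroup (E : FusionSystem T) (F₀ : FusionSystem S) (hTS : T ≤ S)
    {P : Subgroup Ω} (hPT : P ≤ T) (α : MulAut P) :
    α ∈ (olvCap E F₀ hTS).autGroup P ↔ α ∈ E.autGroup P ∧ α ∈ F₀.autGroup P := by
  rw [Fusion.mem_autGroup_iff _ hPT, Fusion.mem_autGroup_iff E hPT,
    Fusion.mem_autGroup_iff F₀ (hPT.trans hTS)]
  exact Iff.rfl

/-- For a fully centralized subgroup `U`, the subgroup `U C_S(U)` is centric. -/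
theorem olv_isCentric_sup_centralizerIn [Finite S] (F : FusionSystem S) {U : Subgroup Ω}
    (hU : F.IsFullyCentralized U) : F.IsCentric (U ⊔ centralizerIn S U) := by
  have hUS := hU.1
  have hXS : U ⊔ centralizerIn S U ≤ S := sup_le hUS inf_le_left
  haveI : Finite ↥(U ⊔ centralizerIn S U) := Fusion.finite_of_le hXS
  refine ⟨hXS, ?_⟩
  rintro Q ⟨φ, hφ, rfl⟩
  have hinj := F.injective_of_mem hφ
  obtain ⟨U', hU'⟩ : ∃ U' : Subgroup Ω,
      U' = (U.subgroupOf (U ⊔ centralizerIn S U)).map φ := ⟨_, rfl⟩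
  have hconj : F.IsConj U U' := by
    refine ⟨φ.comp (Subgroup.inclusion le_sup_left), Fusion.restrict_mem F hφ le_sup_left, ?_⟩
    rw [hU']
    ext y
    constructor
    · rintro ⟨x, rfl⟩
      refine ⟨Subgroup.inclusion le_sup_left x, ?_, rfl⟩
      rw [SetLike.mem_coe, Subgroup.mem_subgroupOf]
      exact x.2
    · rintro ⟨x, hx, rfl⟩
      rw [SetLike.mem_coe, Subgroup.mem_subgroupOf] at hx
      exact ⟨⟨x.1, hx⟩, rfl⟩
  have hcard := hU.2 U' hconj
  have hU'S : U' ≤ S := Fusion.isConj_tgt_le F hconj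
  haveI : Finite ↥(centralizerIn S U') := Fusion.finite_of_le inf_le_left
  have hC'le : ((centralizerIn S U).subgroupOf (U ⊔ centralizerIn S U)).map φ ≤
      centralizerIn S U' := by
    rintro _ ⟨c, hc, rfl⟩
    rw [SetLike.mem_coe, Subgroup.mem_subgroupOf] at hc
    refine Subgroup.mem_inf.mpr ⟨Fusion.map_mem F hφ c, ?_⟩
    rw [Subgroup.mem_centralizer_iff, hU']
    rintro _ ⟨x, hx, rfl⟩
    rw [SetLike.mem_coe, Subgroup.mem_subgroupOf] at hx
    rw [← map_mul, ← map_mul]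
    congr 1
    apply Subtype.ext
    exact Subgroup.mem_centralizer_iff.mp (Subgroup.mem_inf.mp hc).2 _ hx
  have hC'card : Nat.card ↥(((centralizerIn S U).subgroupOf (U ⊔ centralizerIn S U)).map φ) =
      Nat.card ↥(centralizerIn S U) := by
    rw [Subgroup.card_map_of_injective hinj, Cfsg.Agent.Lead.card_subgroupOf_of_le le_sup_right]
  have hC'eq := Subgroup.eq_of_le_of_card_ge hC'le (by rw [hC'card]; exact hcard)
  intro x hx
  have hx' : x ∈ centralizerIn S U' := by
    refine Subgroup.mem_inf.mpr ⟨(Subgroup.mem_inf.mp hx).1, ?_⟩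
    apply Subgroup.centralizer_le _ (Subgroup.mem_inf.mp hx).2
    rw [hU']
    rintro _ ⟨y, -, rfl⟩
    exact ⟨y, rfl⟩
  rw [← hC'eq] at hx'
  obtain ⟨y, -, rfl⟩ := hx'
  exact ⟨y, rfl⟩

/-- A strongly closed subgroup is fully centralized. -/
theorem olv_fullyCentralized_of_stronglyClosed [Finite S] (F : FusionSystem S) {W : Subgroup Ω}
    (hW : F.StronglyClosed W) : F.IsFullyCentralized W := by
  refine ⟨hW.1, ?_⟩
  rintro Q ⟨φ, hφ, rfl⟩
  rw [(Fusion.weaklyClosed_of_stronglyClosed F hW).2 φ hφ]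

/-- The top group of a system is centric in it. -/
theorem olv_isCentric_top [Finite T] (E : FusionSystem T) : E.IsCentric T := by
  refine ⟨le_rfl, ?_⟩
  intro Q hQ
  rw [Fusion.isConj_top_eq E hQ]
  exact inf_le_left

section main

variable {F : FusionSystem S} {E : FusionSystem T} {K : Subgroup (MulAut T)}

/-- The automorphisms of `T` in `E` lie in `F₀` (by the extension condition). -/
theorem olv_E_le_top [Finite S] [Finite T] (p : ℕ)
    (h : Setup F E K) (hE : E.IsNormalIn F p) (F₀ : FusionSystem S)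
    (hF10 : ∀ P : Subgroup Ω, F.IsCentric P → E.IsCentric (P ⊓ T) →
      (olvSys h).Hom P ⊆ F₀.Hom P) (α : MulAut T) (hα : α ∈ E.autGroup T) :
    T.subtype.comp α.toMonoidHom ∈ F₀.Hom T := by
  have hTS := h.le
  obtain ⟨β, hβ, hβα, -⟩ := hE.2 α hα
  have hXS : T ⊔ centralizerIn S T ≤ S := sup_le hTS inf_le_left
  have hβF := (Fusion.mem_autGroup_iff F hXS β).mp hβ
  have hXc : F.IsCentric (T ⊔ centralizerIn S T) :=
    olv_isCentric_sup_centralizerIn F (olv_fullyCentralized_of_stronglyClosed F h.sc)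
  have hXT : (T ⊔ centralizerIn S T) ⊓ T = T := inf_eq_right.mpr le_sup_left
  have hTc : E.IsCentric ((T ⊔ centralizerIn S T) ⊓ T) := by
    rw [hXT]
    exact olv_isCentric_top E
  have hαE := (Fusion.mem_autGroup_iff E le_rfl α).mp hα
  have hβ1 : (T ⊔ centralizerIn S T).subtype.comp β.toMonoidHom ∈
      (olvSys h).Hom (T ⊔ centralizerIn S T) := by
    rw [mem_olvSys]
    refine ⟨hβF, ?_⟩
    apply le_olvT h
    have h1 := Fusion.restrict_mem E hαE
      (inf_le_right : (T ⊔ centralizerIn S T) ⊓ T ≤ T)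
    convert h1 using 1
    ext ⟨x, hx⟩
    exact hβα ⟨x, (Subgroup.mem_inf.mp hx).2⟩
  have hβ0 := hF10 _ hXc hTc hβ1
  have h2 := Fusion.restrict_mem F₀ hβ0 (le_sup_left : T ≤ T ⊔ centralizerIn S T)
  convert h2 using 1
  ext x
  exact (hβα x).symm

end main

/-- For a centric fully normalized proper subgroup `P` of a saturated system `E`: if a second system
`D` contains the `p`-elements of `Aut_E(P)` and the maps of `E` on bigger subgroups, then it
contains `Aut_E(P)` (Frattini argument). -/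
theorem olv_aut_le_of_pElements [Finite T] (p : ℕ) [Fact p.Prime] (hT : IsPGroup p T)
    (E : FusionSystem T) (hEsat : E.IsSaturated p) (D : FusionSystem T)
    {P : Subgroup Ω} (hc : E.IsCentric P) (hfn : E.IsFullyNormalized P) (hne : P ≠ T)
    (hpel : ∀ a ∈ E.autGroup P, ∀ k : ℕ, orderOf a = p ^ k → a ∈ D.autGroup P)
    (hind : ∀ (R : Subgroup Ω) (ψ : R →* Ω), ψ ∈ E.Hom R → Nat.card P < Nat.card R →
      ψ ∈ D.Hom R) :
    E.autGroup P ≤ D.autGroup P := by
  have hPT : P ≤ T := hc.1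
  haveI : Finite P := Fusion.finite_of_le hPT
  obtain ⟨hfc, hfa⟩ := Fusion.fullyCentralized_fullyAutomized_of_fullyNormalized p hT E hEsat hfn
  have hrec := Fusion.receptive_of_fullyCentralized p hT E hEsat hfc
  obtain ⟨R, hR⟩ := hfa.2
  have hUA : autInducedBy T P ≤ E.autGroup P := Fusion.autInducedBy_le_autGroup E hPT
  have hInnU : Inn P ≤ autInducedBy T P := Fusion.inn_le_autInducedBy hPT
  -- the subgroup generated by the `p`-elements
  obtain ⟨M, hM⟩ : ∃ M : Subgroup ↥(E.autGroup P),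
      M = Subgroup.closure {a : ↥(E.autGroup P) | ∃ k : ℕ, orderOf a = p ^ k} := ⟨_, rfl⟩
  haveI hMn : M.Normal := by
    rw [← Subgroup.normalizer_eq_top_iff, hM, eq_top_iff]
    refine le_trans ?_ (Subgroup.normalizer_le_normalizer_closure _)
    intro g _
    rw [Subgroup.mem_set_normalizer_iff]
    intro a
    have ho : orderOf a = orderOf (g * a * g⁻¹) :=
      (SemiconjBy.conj_mk g a).orderOf_eq
    constructor
    · rintro ⟨k, hk⟩
      exact ⟨k, ho ▸ hk⟩
    · rintro ⟨k, hk⟩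
      exact ⟨k, ho.symm ▸ hk⟩
  have hRM : (R : Subgroup ↥(E.autGroup P)) ≤ M := by
    intro r hr
    rw [hM]
    apply Subgroup.subset_closure
    exact exists_orderOf_of_isPGroup p R.2 hr
  have hMD : ∀ m ∈ M, (m : MulAut P) ∈ D.autGroup P := by
    intro m hm
    have : M ≤ (D.autGroup P).subgroupOf (E.autGroup P) := by
      rw [hM, Subgroup.closure_le]
      rintro a ⟨k, hk⟩
      rw [SetLike.mem_coe, Subgroup.mem_subgroupOf]
      apply hpel a.1 a.2 k
      rw [← hk, Subgroup.orderOf_coe]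
    exact Subgroup.mem_subgroupOf.mp (this hm)
  have hfrat := Sylow.normalizer_sup_eq_top' R hRM
  -- a non-inner element of `Aut_T(P)`
  have hV : ∃ β ∈ autInducedBy T P, β ∉ Inn P := by
    obtain ⟨g, hgN, hgP⟩ := Fusion.exists_mem_normalizerIn_not_mem hT hPT hne
    have hgS : g ∈ T := (Subgroup.mem_inf.mp hgN).1
    have hgN' : g ∈ Subgroup.normalizer (P : Set Ω) := (Subgroup.mem_inf.mp hgN).2
    refine ⟨conjAutHom P ⟨g, hgN'⟩, Fusion.conjAutHom_mem_autInducedBy P _ hgS, ?_⟩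
    rintro ⟨x, hx⟩
    apply hgP
    have hcomm : (x : Ω)⁻¹ * g ∈ centralizerIn T P := by
      refine Subgroup.mem_inf.mpr ⟨T.mul_mem (T.inv_mem (hPT x.2)) hgS, ?_⟩
      rw [Subgroup.mem_centralizer_iff]
      intro y hy
      have h2 := congrArg (fun β : MulAut P => ((β ⟨y, hy⟩ : P) : Ω)) hx
      have h3 : (x : Ω) * y * (x : Ω)⁻¹ = g * y * g⁻¹ := h2
      calc y * ((x : Ω)⁻¹ * g) = (x : Ω)⁻¹ * ((x : Ω) * y * (x : Ω)⁻¹) * g := by group
        _ = (x : Ω)⁻¹ * (g * y * g⁻¹) * g := by rw [h3]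
        _ = (x : Ω)⁻¹ * g * y := by group
    have h4 := hc.2 P (Fusion.isConj_refl E hPT) hcomm
    have h5 : g = (x : Ω) * ((x : Ω)⁻¹ * g) := by group
    rw [h5]
    exact P.mul_mem x.2 h4
  intro α hα
  have hmem : (⟨α, hα⟩ : ↥(E.autGroup P)) ∈ (⊤ : Subgroup ↥(E.autGroup P)) := Subgroup.mem_top _
  rw [← hfrat] at hmem
  obtain ⟨n, hn, m, hm, hnm⟩ := Subgroup.mem_sup_of_normal_right.mp hmem
  have hαeq : α = (n : MulAut P) * (m : MulAut P) := by
    have := congrArg Subtype.val hnm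
    exact this.symm
  rw [hαeq]
  refine (D.autGroup P).mul_mem ?_ (hMD m hm)
  -- the normalizer part extends
  have hnorm : ∀ v ∈ autInducedBy T P, (n : MulAut P) * v * (n : MulAut P)⁻¹ ∈ autInducedBy T P := by
    intro v hv
    have hvR : (⟨v, hUA hv⟩ : ↥(E.autGroup P)) ∈ (R : Subgroup ↥(E.autGroup P)) := by
      rw [hR, Subgroup.mem_subgroupOf]
      exact hv
    have h1 := (Subgroup.mem_normalizer_iff.mp hn _).mp hvR
    rw [hR, Subgroup.mem_subgroupOf] at h1
    exact h1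
  obtain ⟨Q, hPQ, φ, hφ, hφn⟩ := Fusion.mem_extSet_of_normalizes E hrec n.1 n.2
    (autInducedBy T P) hInnU le_rfl hV hnorm
  haveI : Finite Q := Fusion.finite_of_le (E.le_of_mem hφ).1
  have hφD := hind Q φ hφ (card_lt_of_lt hPQ)
  have h1 := Fusion.restrict_mem D hφD hPQ.le
  rw [Fusion.mem_autGroup_iff D hPT]
  convert h1 using 1
  ext x
  exact (hφn x).symm

section main2

variable {F : FusionSystem S} {E : FusionSystem T} {K : Subgroup (MulAut T)}

theorem olv_E_le [Finite S] (p : ℕ) [Fact p.Prime] (hS : IsPGroup p S) [Finite T]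
    (h : Setup F E K) (hE : E.IsNormalIn F p) (F₀ : FusionSystem S)
    (hidx : F₀.HasPrimeToPIndexIn F p)
    (hF10 : ∀ P : Subgroup Ω, F.IsCentric P → E.IsCentric (P ⊓ T) →
      (olvSys h).Hom P ⊆ F₀.Hom P) :
    E.IsSubsystemOf F₀ := by
  have hTS := h.le
  have hT : IsPGroup p T := hS.to_le hTS
  have hEsat : E.IsSaturated p := hE.1.1
  have hEF : E.IsSubsystemOf F := h.inv.1
  have htop : E.autGroup T ≤ (olvCap E F₀ hTS).autGroup T := by
    intro α hα
    rw [Fusion.mem_autGroup_iff _ le_rfl]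
    exact ⟨(Fusion.mem_autGroup_iff E le_rfl α).mp hα, olv_E_le_top p h hE F₀ hF10 α hα⟩
  have key : E ≤ olvCap E F₀ hTS := by
    apply Fusion.alperin_ind p hT E hEsat
    intro P hP hind
    by_cases hPT : P = T
    · subst hPT
      exact htop
    · rcases hP with hP | hess
      · exact absurd hP hPT
      · obtain ⟨hc, hfn, -⟩ := hess
        have hPle : P ≤ T := hc.1
        apply olv_aut_le_of_pElements p hT E hEsat _ hc hfn hPT ?_ hind
        intro a ha k hk
        rw [mem_olvCap_autGroup E F₀ hTS hPle]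
        refine ⟨ha, ?_⟩
        have haF : a ∈ F.autGroup P := by
          rw [Fusion.mem_autGroup_iff F (hPle.trans hTS)]
          exact hEF P ((Fusion.mem_autGroup_iff E hPle a).mp ha)
        apply hidx.2 P (hPle.trans hTS)
        refine ⟨⟨a, haF⟩, Subgroup.subset_closure ⟨k, ?_⟩, rfl⟩
        rw [← hk, Subgroup.orderOf_mk]
  intro P φ hφ
  exact (key P hφ).2

end main2

end Cfsg.Agent.OLV
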