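import Mathlib
import Cfsg.Prelude.Def_FusionComponents
import Cfsg.Agent.OLV.Props
import Cfsg.Agent.Helper2.PPrimeResA
import Cfsg.Agent.Lead.FusionCentNormal

set_option autoImplicit false

/-!
# S5243, part 5: the family `olvH` and the generated system `olvF0`

`olvH F E` is the family of the `F`-centric subgroups `P` with `P ⊓ T` centric in `E`; `olvF0 h` is
the subsystem of `F` generated by the maps of the auxiliary system `olvSys h` on the members of this
family.
-/

namespace Cfsg.Agent.OLV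

open Cfsg Cfsg.FusionSystem Cfsg.Agent.Lead Cfsg.Agent.Lead.StrongInv Cfsg.Agent.Lead.PrimeIdx
open Cfsg.Agent.Helper2.PPrimeRes

variable {Ω : Type*} [Group Ω] {S T : Subgroup Ω}
variable {F : FusionSystem S} {E : FusionSystem T} {K : Subgroup (MulAut T)}

/-- The family of the `F`-centric subgroups `P` with `P ⊓ T` centric in `E`. -/
def olvH (F : FusionSystem S) (E : FusionSystem T) : Set (Subgroup Ω) :=
  {P | F.IsCentric P ∧ E.IsCentric (P ⊓ T)}

theorem mem_olvH {P : Subgroup Ω} : P ∈ olvH F E ↔ F.IsCentric P ∧ E.IsCentric (P ⊓ T) := Iff.rfl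

/-- The subsystem of `F` generated by the maps of the auxiliary system on the members of `olvH`. -/
def olvF0 [Finite T] (h : Setup F E K) : FusionSystem S :=
  interSys F {D | ∀ P ∈ olvH F E, (olvSys h).Hom P ⊆ D.Hom P}

theorem olvF0_le [Finite T] (h : Setup F E K) : (olvF0 h).IsSubsystemOf F := interSys_le F _

theorem olvF0_le_olvSys [Finite T] (h : Setup F E K) : (olvF0 h).IsSubsystemOf (olvSys h) :=
  interSys_le_of_mem F (fun _ _ => subset_rfl)

theorem olvSys_le_olvF0 [Finite T] (h : Setup F E K) :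
    ∀ P ∈ olvH F E, (olvSys h).Hom P ⊆ (olvF0 h).Hom P :=
  fun P hP _ hφ => ⟨olvSys_le h P hφ, fun _ hD => hD P hP hφ⟩

theorem olvF0_min [Finite T] (h : Setup F E K) (D : FusionSystem S)
    (hD : ∀ P ∈ olvH F E, (olvSys h).Hom P ⊆ D.Hom P) : (olvF0 h).IsSubsystemOf D :=
  interSys_le_of_mem F hD

theorem olvF0_hom_eq [Finite T] (h : Setup F E K) {P : Subgroup Ω} (hP : P ∈ olvH F E) :
    (olvF0 h).Hom P = (olvSys h).Hom P :=
  Set.Subset.antisymm (olvF0_le_olvSys h P) (olvSys_le_olvF0 h P hP)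

/-- `S` belongs to the family. -/
theorem olvH_top [Finite S] [Finite T] (hTS : T ≤ S) : S ∈ olvH F E := by
  refine ⟨Fusion.top_isCentric F, ?_⟩
  have : S ⊓ T = T := inf_eq_right.mpr hTS
  rw [this]
  exact Fusion.top_isCentric E

/-- The family is closed under passing to overgroups in `S`. -/
theorem olvH_of_le {P N : Subgroup Ω} (hP : P ∈ olvH F E) (hPN : P ≤ N) (hNS : N ≤ S) :
    N ∈ olvH F E :=
  ⟨Fusion.isCentric_of_le F hPN hNS hP.1,
    Fusion.isCentric_of_le E (inf_le_inf_right T hPN) inf_le_right hP.2⟩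

/-- The centric radical subgroups of `F` belong to the family. -/
theorem olvH_of_centric_radical [Finite S] (p : ℕ) [Fact p.Prime] (hS : IsPGroup p S)
    (hF : F.IsSaturated p) (hE : E.IsNormalIn F p) {P : Subgroup Ω} (hPc : F.IsCentric P)
    (hPr : F.IsRadical p P) : P ∈ olvH F E := by
  refine ⟨hPc, ?_⟩
  by_contra hn
  exact (Fusion.s5251 p hS F hF E hE P hPc hn).2 hPr

end Cfsg.Agent.OLV
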