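import Mathlib
import Cfsg.Prelude.Def_FusionComponents
import Cfsg.Agent.OLV.Gen

set_option autoImplicit false

/-!
# S5243: the family `olvH` is closed under conjugacy in `F`

* `olv_isCentric_map`: an element of `Aut_F(T)` carries the `E`-centric subgroups of `T` to
  `E`-centric subgroups, when `E` is invariant in `F`.
* `olvH_conj`: if `P` belongs to the family `olvH F E` and `Q` is conjugate to `P` in `F`, then `Q`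
  belongs to the family.
-/

namespace Cfsg.Agent.OLV

open Cfsg Cfsg.FusionSystem Cfsg.Agent.Lead Cfsg.Agent.Lead.StrongInv Cfsg.Agent.Lead.PrimeIdx

variable {Ω : Type*} [Group Ω] {S T : Subgroup Ω}
variable {F : FusionSystem S} {E : FusionSystem T} {K : Subgroup (MulAut T)}

/-- The image of an `E`-centric subgroup under an element of `Aut_F(T)` is `E`-centric. -/
theorem olv_isCentric_map (hinv : E.IsInvariantIn F) (a : MulAut T) (ha : a ∈ F.autGroup T)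
    {Q : Subgroup Ω} (hQ : E.IsCentric Q) :
    E.IsCentric ((Q.subgroupOf T).map (T.subtype.comp a.toMonoidHom)) := by
  have hTS : T ≤ S := hinv.2.1.1
  have hSI : SItop F E := by
    have hSI := SI_of_invariant F E hinv
    intro P hPT φ hφ hφT ψ hψ
    exact hSI P T hPT le_rfl φ hφ hφT ψ hψ
  have hQT : Q ≤ T := hQ.1
  have hQ'T : (Q.subgroupOf T).map (T.subtype.comp a.toMonoidHom) ≤ T := by
    rintro _ ⟨t, -, rfl⟩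
    exact (a t).2
  refine ⟨hQ'T, ?_⟩
  rintro R' ⟨φ', hφ', rfl⟩
  have hainv : a⁻¹ ∈ F.autGroup T := (F.autGroup T).inv_mem ha
  have hγ : T.subtype.comp (a⁻¹).toMonoidHom ∈ F.Hom T :=
    (Fusion.mem_autGroup_iff F hTS _).mp hainv
  have hmem : ∀ z, z ∈ Q ↔ ∃ (r : Ω)
      (hr : r ∈ (Q.subgroupOf T).map (T.subtype.comp a.toMonoidHom)),
      (T.subtype.comp (a⁻¹).toMonoidHom) ⟨r, hQ'T hr⟩ = z := by
    intro z
    constructor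
    · intro hz
      refine ⟨((a ⟨z, hQT hz⟩ : T) : Ω), ⟨⟨z, hQT hz⟩, ?_, rfl⟩, ?_⟩
      · exact Subgroup.mem_subgroupOf.mpr hz
      · show ((a⁻¹ ⟨((a ⟨z, hQT hz⟩ : T) : Ω), _⟩ : T) : Ω) = z
        have e1 : (⟨((a ⟨z, hQT hz⟩ : T) : Ω), (a ⟨z, hQT hz⟩).2⟩ : T) = a ⟨z, hQT hz⟩ := rfl
        rw [e1, MulAut.inv_apply_self]
    · rintro ⟨r, ⟨t, ht, rfl⟩, rfl⟩
      show ((a⁻¹ ⟨((a t : T) : Ω), _⟩ : T) : Ω) ∈ Q
      have e1 : (⟨((a t : T) : Ω), (a t).2⟩ : T) = a t := rfl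
      rw [e1, MulAut.inv_apply_self]
      exact Subgroup.mem_subgroupOf.mp ht
  obtain ⟨χ, hχ, hχv⟩ := conj_of_SItop F E hSI hQ'T hφ' hγ Q hmem
  have hcent := hQ.2 χ.range ⟨χ, hχ, rfl⟩
  have key : ∀ q : Q, ∃ (r : Ω)
      (hr : r ∈ (Q.subgroupOf T).map (T.subtype.comp a.toMonoidHom)),
      χ q = ((a⁻¹ ⟨φ' ⟨r, hr⟩, (E.le_of_mem hφ').2 ⟨r, hr⟩⟩ : T) : Ω) := by
    intro q
    obtain ⟨r, hr, hrq⟩ := (hmem q.1).mp q.2
    have hr' : (T.subtype.comp (a⁻¹).toMonoidHom) ⟨r, hQ'T hr⟩ ∈ Q := hrq ▸ q.2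
    have hq' : q = ⟨(T.subtype.comp (a⁻¹).toMonoidHom) ⟨r, hQ'T hr⟩, hr'⟩ :=
      Subtype.ext hrq.symm
    refine ⟨r, hr, ?_⟩
    rw [hq', hχv r hr hr']
    rfl
  intro c hc
  obtain ⟨hcT, hcC⟩ := Subgroup.mem_inf.mp hc
  rw [Subgroup.mem_centralizer_iff] at hcC
  have hc0 : ((a⁻¹ ⟨c, hcT⟩ : T) : Ω) ∈ centralizerIn T χ.range := by
    refine Subgroup.mem_inf.mpr ⟨(a⁻¹ ⟨c, hcT⟩).2, ?_⟩
    rw [Subgroup.mem_centralizer_iff]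
    rintro _ ⟨q, rfl⟩
    obtain ⟨r, hr, hq⟩ := key q
    rw [hq]
    have h1 : φ' ⟨r, hr⟩ * c = c * φ' ⟨r, hr⟩ := hcC _ ⟨⟨r, hr⟩, rfl⟩
    have h2 : (⟨φ' ⟨r, hr⟩, (E.le_of_mem hφ').2 ⟨r, hr⟩⟩ : T) * ⟨c, hcT⟩ =
        ⟨c, hcT⟩ * ⟨φ' ⟨r, hr⟩, (E.le_of_mem hφ').2 ⟨r, hr⟩⟩ := Subtype.ext h1
    have h3 := congrArg (fun t : T => ((a⁻¹ t : T) : Ω)) h2
    simpa only [map_mul, Subgroup.coe_mul] using h3
  obtain ⟨q, hq⟩ := hcent hc0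
  obtain ⟨r, hr, hq'⟩ := key q
  rw [hq'] at hq
  have h4 : (⟨φ' ⟨r, hr⟩, (E.le_of_mem hφ').2 ⟨r, hr⟩⟩ : T) = ⟨c, hcT⟩ :=
    (a⁻¹).injective (Subtype.ext hq)
  exact ⟨⟨r, hr⟩, congrArg Subtype.val h4⟩

/-- The family `olvH F E` is closed under conjugacy in `F`. -/
theorem olvH_conj (h : Setup F E K) {P Q : Subgroup Ω} (hP : P ∈ olvH F E)
    (hPQ : F.IsConj P Q) : Q ∈ olvH F E := by
  obtain ⟨φ, hφ, rfl⟩ := hPQ
  refine ⟨Fusion.isCentric_of_isConj F hP.1 ⟨φ, hφ, rfl⟩, ?_⟩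
  have hφT := Fusion.restrict_mem F hφ (inf_le_left : P ⊓ T ≤ P)
  obtain ⟨α, hα, φ₀, hφ₀, hv⟩ := h.inv.2.2.2 (P ⊓ T) inf_le_right _ hφT
  have hR₀ : E.IsCentric φ₀.range := Fusion.isCentric_of_isConj E hP.2 ⟨φ₀, hφ₀, rfl⟩
  have hmap := olv_isCentric_map h.inv α hα hR₀
  have heq : (φ₀.range.subgroupOf T).map (T.subtype.comp α.toMonoidHom) = φ.range ⊓ T := by
    ext y
    constructor
    · rintro ⟨t, ht, rfl⟩
      obtain ⟨x, hx⟩ := Subgroup.mem_subgroupOf.mp ht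
      have h1 := hv x ((E.le_of_mem hφ₀).2 x)
      have e1 : (⟨φ₀ x, (E.le_of_mem hφ₀).2 x⟩ : T) = t := Subtype.ext hx
      rw [e1] at h1
      exact Subgroup.mem_inf.mpr ⟨⟨Subgroup.inclusion inf_le_left x, h1⟩, (α t).2⟩
    · intro hy
      obtain ⟨⟨x, rfl⟩, hyT⟩ := Subgroup.mem_inf.mp hy
      obtain ⟨ψ, hψ, hinv⟩ := F.inv_mem hφ
      have hxT : (x : Ω) ∈ T := by
        have h1 := Fusion.map_mem_of_stronglyClosed F h.sc hψ ⟨φ x, ⟨x, rfl⟩⟩ hyT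
        rwa [hinv x] at h1
      have hx' : (x : Ω) ∈ P ⊓ T := Subgroup.mem_inf.mpr ⟨x.2, hxT⟩
      have h1 := hv ⟨x, hx'⟩ ((E.le_of_mem hφ₀).2 _)
      refine ⟨⟨φ₀ ⟨x, hx'⟩, (E.le_of_mem hφ₀).2 _⟩, ?_, ?_⟩
      · exact Subgroup.mem_subgroupOf.mpr ⟨⟨x, hx'⟩, rfl⟩
      · exact h1.symm
  rw [← heq]
  exact hmap

end Cfsg.Agent.OLV
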