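import Mathlib
import Cfsg.Prelude.Def_FusionSystem
import Cfsg.Agent.Lead.PrimeIdxD
import Cfsg.Agent.Lead.FusionNormalCrit
import Cfsg.Agent.Lead.FusionCentNormal

/-!
# `PrimeIdx.main` with the hypothesis only on the centric radical subgroups

A copy of `pElement_mem_coreSys`, `closure_le_coreSys`, `good_all_top` and `main` of
`Lead/PrimeIdxB-D`, where the hypothesis on `p`-elements of `Aut_F(P)` is assumed only for the
`F`-centric `F`-radical subgroups `P` (piece P3 of S5243).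
-/

set_option autoImplicit false

namespace Cfsg.Agent.OLV

open Cfsg Cfsg.FusionSystem Cfsg.Agent.Lead Cfsg.Agent.Lead.StrongInv Cfsg.Agent.Lead.PrimeIdx

variable {Ω : Type*} [Group Ω] {S : Subgroup Ω}

theorem olv_pElement_mem_coreSys [Finite S] (p : ℕ) (F E : FusionSystem S)
    (h : ∀ P : Subgroup Ω, F.IsCentric P → F.IsRadical p P →
      (Subgroup.closure {α : ↥(F.autGroup P) | ∃ k : ℕ, orderOf α = p ^ k}).map
        (F.autGroup P).subtype ≤ E.autGroup P)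
    {P : Subgroup Ω} (hP : F.IsCentric P) (hPr : F.IsRadical p P) (α : MulAut P) (hα : α ∈ F.autGroup P) (k : ℕ)
    (hk : orderOf α = p ^ k) : α ∈ (coreSys F E).autGroup P := by
  have hPS : P ≤ S := hP.1
  rw [Fusion.mem_autGroup_iff (coreSys F E) hPS]
  refine ⟨(Fusion.mem_autGroup_iff F hPS α).mp hα, ?_⟩
  intro hPS' hφS γ hγ
  have hres := Fusion.restrict_mem F hγ hPS
  have hr := range_restrict hPS γ
  have hP'S : (P.subgroupOf S).map γ ≤ S := by
    rw [← hr]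
    exact Fusion.range_le F hres
  set e := Fusion.equivOfRange (γ.comp (Subgroup.inclusion hPS)) (F.injective_of_mem hres) hr
    with he
  have hα' : MulAut.congr e α ∈ F.autGroup ((P.subgroupOf S).map γ) :=
    Fusion.congr_mem_autGroup F hres hr α hα
  have hord : orderOf (MulAut.congr e α) = p ^ k := by
    rw [MulEquiv.orderOf_eq, hk]
  have hP' : F.IsCentric ((P.subgroupOf S).map γ) := Fusion.isCentric_of_isConj F hP ⟨_, hres, hr⟩
  have hmem : MulAut.congr e α ∈ E.autGroup ((P.subgroupOf S).map γ) := by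
    apply h _ hP' (Fusion.isRadical_of_isConj p F ⟨_, hres, hr⟩ hPr)
    refine ⟨⟨MulAut.congr e α, hα'⟩, Subgroup.subset_closure ⟨k, ?_⟩, rfl⟩
    rw [Subgroup.orderOf_mk, hord]
  rw [Fusion.mem_autGroup_iff E hP'S] at hmem
  refine ⟨_, hmem, ?_⟩
  intro x hx
  show (((MulAut.congr e α) ⟨γ (Subgroup.inclusion hPS x), hx⟩ : _) : Ω) = γ ⟨(α x : P), hφS x⟩
  have h1 : (⟨γ (Subgroup.inclusion hPS x), hx⟩ : ((P.subgroupOf S).map γ : Subgroup Ω)) = e x :=
    rfl
  rw [h1]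
  have h2 : (MulAut.congr e α) (e x) = e (α x) := by
    simp [MulAut.congr]
  rw [h2]
  rfl

theorem olv_closure_le_coreSys [Finite S] (p : ℕ) (F E : FusionSystem S)
    (h : ∀ P : Subgroup Ω, F.IsCentric P → F.IsRadical p P →
      (Subgroup.closure {α : ↥(F.autGroup P) | ∃ k : ℕ, orderOf α = p ^ k}).map
        (F.autGroup P).subtype ≤ E.autGroup P)
    {P : Subgroup Ω} (hP : F.IsCentric P) (hPr : F.IsRadical p P) :
    (Subgroup.closure {α : ↥(F.autGroup P) | ∃ k : ℕ, orderOf α = p ^ k}).map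
        (F.autGroup P).subtype ≤ (coreSys F E).autGroup P := by
  rw [Subgroup.map_le_iff_le_comap, Subgroup.closure_le]
  rintro ⟨α, hα⟩ ⟨k, hk⟩
  show α ∈ (coreSys F E).autGroup P
  apply olv_pElement_mem_coreSys p F E h hP hPr α hα k
  rw [← hk, Subgroup.orderOf_mk]

theorem olv_good_all_top [Finite S] (p : ℕ) [Fact p.Prime] (hS : IsPGroup p S)
    (F : FusionSystem S) (hF : F.IsSaturated p) (E : FusionSystem S) (hEF : E.IsSubsystemOf F)
    (hSI : SItop F E)
    (h : ∀ P : Subgroup Ω, F.IsCentric P → F.IsRadical p P →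
      (Subgroup.closure {α : ↥(F.autGroup P) | ∃ k : ℕ, orderOf α = p ^ k}).map
        (F.autGroup P).subtype ≤ E.autGroup P) :
    F ≤ goodSys F E hSI := by
  apply Fusion.alperin_ind p hS F hF
  intro P hP IH
  by_cases hPeq : P = S
  · subst hPeq
    intro b hb
    rw [Fusion.mem_autGroup_iff _ le_rfl] at hb ⊢
    exact ⟨hb, _, hb, P.subtype, Fusion.subtype_mem E le_rfl, fun x => rfl⟩
  · have hrad : F.IsRadical p P := Fusion.isRadical_of_isEssential p hS F (hP.resolve_left hPeq)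
    obtain ⟨hcen, hfn, -⟩ := hP.resolve_left hPeq
    have hPS : P ≤ S := hcen.1
    have hfinP : Finite P := Fusion.finite_of_le hPS
    obtain ⟨hfc, hfa⟩ := Fusion.fullyCentralized_fullyAutomized_of_fullyNormalized p hS F hF hfn
    have hrec := Fusion.receptive_of_fullyCentralized p hS F hF hfc
    intro b hb
    set N : Subgroup (MulAut P) :=
      (Subgroup.closure {α : ↥(F.autGroup P) | ∃ k : ℕ, orderOf α = p ^ k}).map
        (F.autGroup P).subtype with hN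
    have hNF : N ≤ F.autGroup P := by
      rintro _ ⟨a, -, rfl⟩
      exact a.2
    have hNE : N ≤ E.autGroup P := h P hcen hrad
    have hpel : ∀ a ∈ F.autGroup P, (∃ k : ℕ, orderOf a = p ^ k) → a ∈ N := by
      rintro a ha ⟨k, hk⟩
      refine ⟨⟨a, ha⟩, Subgroup.subset_closure ⟨k, ?_⟩, rfl⟩
      rw [Subgroup.orderOf_mk, hk]
    have hUF : autInducedBy S P ≤ F.autGroup P := Fusion.autInducedBy_le_autGroup F hPS
    have hUp : IsPGroup p (autInducedBy S P) := Fusion.isPGroup_autInducedBy p hS P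
    have hUN : autInducedBy S P ≤ N := fun u hu =>
      hpel u (hUF hu) (exists_orderOf_of_isPGroup p hUp hu)
    have hUcardF : Nat.card (autInducedBy S P) = p ^ (Nat.card (F.autGroup P)).factorization p :=
      (exists_sylow_eq_subgroupOf_iff (F.autGroup P) (autInducedBy S P) hUF).mp hfa.2
    have hUcardN := card_eq_ppart_of_le hUN hNF hUp hUcardF
    have hbU : (autInducedBy S P).map (MulAut.conj b).toMonoidHom ≤ N := by
      rintro _ ⟨u, hu, rfl⟩
      apply hpel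
      · exact Subgroup.mul_mem _ (Subgroup.mul_mem _ hb (hUF hu)) (Subgroup.inv_mem _ hb)
      · obtain ⟨j, hj⟩ := exists_orderOf_of_isPGroup p hUp hu
        refine ⟨j, ?_⟩
        rw [← hj]
        exact MulEquiv.orderOf_eq (MulAut.conj b) u
    obtain ⟨m, hm, hmU⟩ := exists_conj_le_of_card_eq_ppart hUN hUcardN hbU (hUp.map _)
    set ν := m * b with hν
    have hνF : ν ∈ F.autGroup P := Subgroup.mul_mem _ (hNF hm) hb
    have hνV : ∀ v ∈ autInducedBy S P, ν * v * ν⁻¹ ∈ autInducedBy S P := by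
      intro v hv
      have h1 : m * (b * v * b⁻¹) * m⁻¹ ∈ autInducedBy S P :=
        hmU ⟨b * v * b⁻¹, ⟨v, hv, rfl⟩, rfl⟩
      have h2 : ν * v * ν⁻¹ = m * (b * v * b⁻¹) * m⁻¹ := by rw [hν]; group
      rw [h2]; exact h1
    have hνhom := (Fusion.mem_autGroup_iff F hPS ν).mp hνF
    have hle : normalizerIn S P ≤ extender S P (P.subtype.comp ν.toMonoidHom) := by
      intro g hg
      obtain ⟨hgS, hgN⟩ := Subgroup.mem_inf.mp hg
      apply Subgroup.subset_closure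
      refine ⟨hgS, hgN, ?_⟩
      have hcU : conjAutHom P ⟨g, hgN⟩ ∈ autInducedBy S P :=
        Fusion.conjAutHom_mem_autInducedBy P ⟨g, hgN⟩ hgS
      have h1 : ν * conjAutHom P ⟨g, hgN⟩ * ν⁻¹ ∈ autInducedBy S P := hνV _ hcU
      rw [mem_autInducedBy_iff] at h1
      obtain ⟨h, hhS, hh⟩ := h1
      refine ⟨h, hhS, fun x hx => ?_⟩
      have h2 := hh (ν x)
      show ((ν ⟨g * x * g⁻¹, hx⟩ : P) : Ω) = h * ((ν x : P) : Ω) * h⁻¹
      rw [← h2]
      simp only [MulAut.mul_apply, MulAut.inv_apply_self]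
      rfl
    obtain ⟨ψ', hψ', hext⟩ := hrec.2 P _ hνhom (range_aut P ν)
    have hνhat := Fusion.restrict_mem F hψ' hle
    have hcard : Nat.card P < Nat.card (normalizerIn S P) :=
      Fusion.card_lt_card_normalizerIn hS hPS hPeq
    have hG1 := IH _ _ hνhat hcard
    have hPN : P ≤ normalizerIn S P := Fusion.le_normalizerIn hPS
    have hG2 := Fusion.restrict_mem (goodSys F E hSI) hG1 hPN
    have hνG : ν ∈ (goodSys F E hSI).autGroup P := by
      rw [Fusion.mem_autGroup_iff _ hPS]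
      convert hG2 using 1
      ext x
      exact (hext x.1 x.2 (hle (hPN x.2))).symm
    have hmG : m ∈ (goodSys F E hSI).autGroup P := by
      have h1 := hNE hm
      rw [Fusion.mem_autGroup_iff E hPS] at h1
      rw [Fusion.mem_autGroup_iff _ hPS]
      exact ⟨hEF _ h1, good_of_mem F E le_rfl h1⟩
    have hb' : b = m⁻¹ * ν := by rw [hν]; group
    rw [hb']
    exact Subgroup.mul_mem _ (Subgroup.inv_mem _ hmG) hνG

theorem olv_main_cr [Finite S] (p : ℕ) [Fact p.Prime] (hS : IsPGroup p S)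
    (F : FusionSystem S) (hF : F.IsSaturated p) (E : FusionSystem S) (hEF : E.IsSubsystemOf F)
    (h : ∀ P : Subgroup Ω, F.IsCentric P → F.IsRadical p P →
      (Subgroup.closure {α : ↥(F.autGroup P) | ∃ k : ℕ, orderOf α = p ^ k}).map
        (F.autGroup P).subtype ≤ E.autGroup P) :
    E.HasPrimeToPIndexIn F p ∧
    (∀ (P : Subgroup Ω) (φ : P →* Ω), φ ∈ F.Hom P → ∃ α ∈ F.autGroup S, ∃ φ₀ ∈ E.Hom P,
      ∀ (x : P) (hx : φ₀ x ∈ S), φ x = ((α ⟨φ₀ x, hx⟩ : S) : Ω)) ∧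
    ∀ P : Subgroup Ω, E.IsCentric P ↔ F.IsCentric P := by
  have hE'E : ∀ P, (coreSys F E).Hom P ⊆ E.Hom P := coreSys_sub F E
  have hE'F : (coreSys F E).IsSubsystemOf F := coreSys_sub_F F E
  have hSI : SItop F (coreSys F E) := SItop_coreSys F E hEF
  have h' := fun P hP hPr => olv_closure_le_coreSys p F E h (P := P) hP hPr
  have hgood := olv_good_all_top p hS F hF (coreSys F E) hE'F hSI h'
  have hG' : ∀ (P : Subgroup Ω) (φ : P →* Ω), φ ∈ F.Hom P → Good F (coreSys F E) P φ :=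
    fun P φ hφ => (hgood P hφ).2
  have hG : ∀ (P : Subgroup Ω) (φ : P →* Ω), φ ∈ F.Hom P → Good F E P φ := by
    intro P φ hφ
    obtain ⟨α, hα, φ₀, h₀, hv⟩ := hG' P φ hφ
    exact ⟨α, hα, φ₀, hE'E P h₀, hv⟩
  refine ⟨⟨hEF, ?_⟩, ?_, ?_⟩
  · intro P hPS
    rw [Subgroup.map_le_iff_le_comap, Subgroup.closure_le]
    rintro ⟨α, hα⟩ ⟨k, hk⟩
    show α ∈ E.autGroup P
    apply pElement_mem_all p hS F hF E hG hPS α hα k
    rw [← hk, Subgroup.orderOf_mk]
  · intro P φ hφ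
    obtain ⟨α, hα, φ₀, h₀, hv⟩ := hG P φ hφ
    have hr : α.range = S := (Fusion.weaklyClosed_of_stronglyClosed F (stronglyClosed_top F)).2 α hα
    obtain ⟨a, ha, hav⟩ := Fusion.exists_aut_of_range_eq F hα hr
    refine ⟨a, ha, φ₀, h₀, fun x hx => ?_⟩
    rw [hav]
    exact hv x
  · intro P
    constructor
    · intro hP
      refine ⟨hP.1, ?_⟩
      rintro Q ⟨φ, hφ, rfl⟩
      obtain ⟨γ, hγ, φ₀, h₀, hv⟩ := hG P φ hφ
      have hφ₀S : ∀ x : P, φ₀ x ∈ S := (E.le_of_mem h₀).2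
      obtain ⟨γ', hγ', hinv1, hinv2⟩ := exists_top_inv F (stronglyClosed_top F) hγ
      have hγ'S : ∀ s : S, γ' s ∈ S := (F.le_of_mem hγ').2
      have hγS : ∀ s : S, γ s ∈ S := (F.le_of_mem hγ).2
      intro c hc
      obtain ⟨hcS, hcC⟩ := Subgroup.mem_inf.mp hc
      set c₀ : Ω := γ' ⟨c, hcS⟩ with hc₀
      have hc₀S : c₀ ∈ S := hγ'S _
      have hγc₀ : γ ⟨c₀, hc₀S⟩ = c := hinv2 ⟨c, hcS⟩ hc₀S
      have hcen : c₀ ∈ centralizerIn S φ₀.range := by
        refine Subgroup.mem_inf.mpr ⟨hc₀S, ?_⟩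
        rw [Subgroup.mem_centralizer_iff]
        rintro _ ⟨x, rfl⟩
        have hm1 : φ₀ x * c₀ ∈ S := S.mul_mem (hφ₀S x) hc₀S
        have hm2 : c₀ * φ₀ x ∈ S := S.mul_mem hc₀S (hφ₀S x)
        have h1 : γ ⟨φ₀ x * c₀, hm1⟩ = γ ⟨c₀ * φ₀ x, hm2⟩ := by
          have e1 : (⟨φ₀ x * c₀, hm1⟩ : S) = ⟨φ₀ x, hφ₀S x⟩ * ⟨c₀, hc₀S⟩ := rfl
          have e2 : (⟨c₀ * φ₀ x, hm2⟩ : S) = ⟨c₀, hc₀S⟩ * ⟨φ₀ x, hφ₀S x⟩ := rfl
          rw [e1, e2, map_mul, map_mul, hγc₀, ← hv x]
          exact (Subgroup.mem_centralizer_iff.mp hcC) (φ x) ⟨x, rfl⟩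
        exact congrArg Subtype.val (F.injective_of_mem hγ h1)
      have hc₀R : c₀ ∈ φ₀.range := hP.2 φ₀.range ⟨φ₀, h₀, rfl⟩ hcen
      obtain ⟨x, hx⟩ := hc₀R
      refine ⟨x, ?_⟩
      rw [hv x, ← hγc₀]
      exact app_congr γ _ _ hx
    · intro hP
      exact Fusion.isCentric_of_le_system (F := F) (F' := E) hEF hP

end Cfsg.Agent.OLV
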