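import Mathlib
import Cfsg.Prelude.Def_FusionSystem
import Cfsg.Agent.Lead.FusionExt
import Cfsg.Agent.Lead.FusionInvariant

/-!
S5243 (Oliver's lemma), piece P4b, general lemma (helper7): a weakly normal subsystem over the
same `S` is normal (the extension condition over `T = S` is trivial).
-/

set_option autoImplicit false

namespace Cfsg.Agent.OLV

open Cfsg Cfsg.FusionSystem Cfsg.Agent.Lead

variable {Ω : Type*} [Group Ω] {S : Subgroup Ω}

theorem olv_sup_centralizerIn_self (S : Subgroup Ω) : S ⊔ centralizerIn S S = S :=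
  sup_eq_left.mpr inf_le_left

/-- A weakly normal subsystem over `S` itself is normal. -/
theorem olv_isNormalIn_of_isWeaklyNormalIn_top (E F : FusionSystem S) (p : ℕ)
    (h : E.IsWeaklyNormalIn F p) : E.IsNormalIn F p := by
  refine ⟨h, ?_⟩
  intro α hα
  have hEF : E.IsSubsystemOf F := h.2.2.1
  have heq : S ⊔ centralizerIn S S = S := olv_sup_centralizerIn_self S
  have h1 : S.subtype.comp α.toMonoidHom ∈ F.Hom S :=
    hEF S ((Fusion.mem_autGroup_iff E le_rfl α).mp hα)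
  obtain ⟨χ, hχ, hχv⟩ := Fusion.exists_hom_of_eq F heq.symm h1
  have hle : S ⊔ centralizerIn S S ≤ S := heq.le
  have hr : χ.range = S ⊔ centralizerIn S S := by
    ext z
    constructor
    · rintro ⟨x, rfl⟩
      rw [hχv x.1 (hle x.2) x.2]
      exact heq.ge (α ⟨x.1, hle x.2⟩).2
    · intro hz
      have hzS : z ∈ S := hle hz
      refine ⟨⟨(α.symm ⟨z, hzS⟩ : S), heq.ge (α.symm ⟨z, hzS⟩).2⟩, ?_⟩
      rw [hχv _ (α.symm ⟨z, hzS⟩).2 _]
      show ((α (α.symm ⟨z, hzS⟩) : S) : Ω) = z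
      simp
  obtain ⟨β, hβ, hβv⟩ := Fusion.exists_aut_of_range_eq F hχ hr
  refine ⟨β, hβ, ?_, ?_⟩
  · intro x
    rw [hβv]
    exact hχv x.1 x.2 _
  · intro c hc
    have hcS : (c : Ω) ∈ S := hle c.2
    have hβc : ((β c : ↥(S ⊔ centralizerIn S S)) : Ω) = ((α ⟨c, hcS⟩ : S) : Ω) := by
      rw [hβv]
      exact hχv c.1 hcS c.2
    rw [hβc]
    have hcC : (c : Ω) ∈ Subgroup.centralizer (S : Set Ω) := (Subgroup.mem_inf.mp hc).2
    refine Subgroup.mem_inf.mpr ⟨S.mul_mem (S.inv_mem hcS) (α ⟨c, hcS⟩).2, ?_⟩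
    refine Subgroup.mul_mem _ (Subgroup.inv_mem _ hcC) ?_
    rw [Subgroup.mem_centralizer_iff]
    intro s hs
    have hs' : (⟨s, hs⟩ : S) = α (α.symm ⟨s, hs⟩) := by simp
    have hcomm : (α.symm ⟨s, hs⟩ : S) * ⟨c, hcS⟩ = ⟨c, hcS⟩ * (α.symm ⟨s, hs⟩ : S) := by
      apply Subtype.ext
      exact (Subgroup.mem_centralizer_iff.mp hcC) _ (α.symm ⟨s, hs⟩).2
    have h2 := congrArg (fun t : S => ((α t : S) : Ω)) hcomm
    simp only [map_mul, MulEquiv.apply_symm_apply, Subgroup.coe_mul] at h2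
    exact h2

end Cfsg.Agent.OLV
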