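import Mathlib
import Cfsg.Prelude.Def_FusionSystem
import Cfsg.Agent.Lead.PrimeIdxD
import Cfsg.Agent.OLV.MainCR
import Cfsg.Agent.OLV.NormalTop

/-!
S5243 (Oliver's lemma), piece P4b, generic part (helper7).

`F1` is a (not necessarily saturated) subsystem of the saturated system `F` over `S`, stable under
the `F`-automorphisms of `S` and containing every `p`-element of every `Aut_F(P)`; `H` is a family of
subgroups closed under `F`-conjugacy and containing the `F`-centric `F`-radical subgroups; `F0` is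
the subsystem of `F` generated by the maps of `F1` on the members of `H`.  Then `F0` is invariant
in `F`, of index prime to `p`, and normal in `F` as soon as it is saturated.
-/

set_option autoImplicit false

namespace Cfsg.Agent.OLV

open Cfsg Cfsg.FusionSystem Cfsg.Agent.Lead Cfsg.Agent.Lead.StrongInv Cfsg.Agent.Lead.PrimeIdx

variable {Ω : Type*} [Group Ω] {S : Subgroup Ω}

/-- The generated system is stable under the `F`-automorphisms of `S`. -/
theorem olv_gen_SItop (F F1 F0 : FusionSystem S) (H : Set (Subgroup Ω))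
    (hF0F : F0.IsSubsystemOf F) (hF1F : F1.IsSubsystemOf F)
    (hF10 : ∀ P ∈ H, F1.Hom P ⊆ F0.Hom P)
    (hmin : ∀ D : FusionSystem S, (∀ P ∈ H, F1.Hom P ⊆ D.Hom P) → F0.IsSubsystemOf D)
    (hHconj : ∀ P ∈ H, ∀ Q : Subgroup Ω, F.IsConj P Q → Q ∈ H)
    (hst : SItop F F1) : SItop F F0 := by
  have hle : F0.IsSubsystemOf (coreSys F F0) := by
    apply hmin
    intro P hP φ hφ
    refine ⟨hF1F P hφ, ?_⟩
    intro hPS hφS γ hγ
    obtain ⟨χ, hχ, hv⟩ := hst P hPS φ hφ hφS γ hγ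
    have hres := Fusion.restrict_mem F hγ hPS
    have hr := range_restrict hPS γ
    have hP' : (P.subgroupOf S).map γ ∈ H := hHconj P hP _ ⟨_, hres, hr⟩
    exact ⟨χ, hF10 _ hP' hχ, hv⟩
  have hSI := SItop_coreSys F F0 hF0F
  intro P hPS φ hφ hφS ψ hψ
  obtain ⟨χ, hχ, hv⟩ := hSI P hPS φ (hle P hφ) hφS ψ hψ
  exact ⟨χ, coreSys_sub F F0 _ hχ, hv⟩

/-- The hypothesis of `olv_main_cr` for the generated system. -/
theorem olv_gen_closure_le [Finite S] (p : ℕ) (F F1 F0 : FusionSystem S) (H : Set (Subgroup Ω))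
    (hF10 : ∀ P ∈ H, F1.Hom P ⊆ F0.Hom P)
    (hcr : ∀ P : Subgroup Ω, F.IsCentric P → F.IsRadical p P → P ∈ H)
    (hB : ∀ P : Subgroup Ω, P ≤ S → ∀ α ∈ F.autGroup P, ∀ k : ℕ, orderOf α = p ^ k →
      α ∈ F1.autGroup P)
    (P : Subgroup Ω) (hPc : F.IsCentric P) (hPr : F.IsRadical p P) :
    (Subgroup.closure {α : ↥(F.autGroup P) | ∃ k : ℕ, orderOf α = p ^ k}).map
        (F.autGroup P).subtype ≤ F0.autGroup P := by
  rw [Subgroup.map_le_iff_le_comap, Subgroup.closure_le]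
  rintro ⟨α, hα⟩ ⟨k, hk⟩
  show α ∈ F0.autGroup P
  have h1 : α ∈ F1.autGroup P := by
    apply hB P hPc.1 α hα k
    rw [← hk, Subgroup.orderOf_mk]
  rw [Fusion.mem_autGroup_iff _ hPc.1] at h1 ⊢
  exact hF10 P (hcr P hPc hPr) h1

/-- The generated system has index prime to `p`, satisfies the Frattini condition and has the
same centric subgroups as `F`. -/
theorem olv_gen_main [Finite S] (p : ℕ) [Fact p.Prime] (hS : IsPGroup p S)
    (F : FusionSystem S) (hF : F.IsSaturated p) (F1 F0 : FusionSystem S) (H : Set (Subgroup Ω))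
    (hF0F : F0.IsSubsystemOf F)
    (hF10 : ∀ P ∈ H, F1.Hom P ⊆ F0.Hom P)
    (hcr : ∀ P : Subgroup Ω, F.IsCentric P → F.IsRadical p P → P ∈ H)
    (hB : ∀ P : Subgroup Ω, P ≤ S → ∀ α ∈ F.autGroup P, ∀ k : ℕ, orderOf α = p ^ k →
      α ∈ F1.autGroup P) :
    F0.HasPrimeToPIndexIn F p ∧
    (∀ (P : Subgroup Ω) (φ : P →* Ω), φ ∈ F.Hom P → ∃ α ∈ F.autGroup S, ∃ φ₀ ∈ F0.Hom P,
      ∀ (x : P) (hx : φ₀ x ∈ S), φ x = ((α ⟨φ₀ x, hx⟩ : S) : Ω)) ∧
    ∀ P : Subgroup Ω, F0.IsCentric P ↔ F.IsCentric P :=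
  olv_main_cr p hS F hF F0 hF0F (olv_gen_closure_le p F F1 F0 H hF10 hcr hB)

/-- The generated system is invariant in `F`. -/
theorem olv_gen_isInvariantIn [Finite S] (p : ℕ) [Fact p.Prime] (hS : IsPGroup p S)
    (F : FusionSystem S) (hF : F.IsSaturated p) (F1 F0 : FusionSystem S) (H : Set (Subgroup Ω))
    (hF0F : F0.IsSubsystemOf F) (hF1F : F1.IsSubsystemOf F)
    (hF10 : ∀ P ∈ H, F1.Hom P ⊆ F0.Hom P)
    (hmin : ∀ D : FusionSystem S, (∀ P ∈ H, F1.Hom P ⊆ D.Hom P) → F0.IsSubsystemOf D)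
    (hHconj : ∀ P ∈ H, ∀ Q : Subgroup Ω, F.IsConj P Q → Q ∈ H)
    (hcr : ∀ P : Subgroup Ω, F.IsCentric P → F.IsRadical p P → P ∈ H)
    (hB : ∀ P : Subgroup Ω, P ≤ S → ∀ α ∈ F.autGroup P, ∀ k : ℕ, orderOf α = p ^ k →
      α ∈ F1.autGroup P)
    (hst : SItop F F1) : F0.IsInvariantIn F := by
  have hSI := olv_gen_SItop F F1 F0 H hF0F hF1F hF10 hmin hHconj hst
  obtain ⟨-, hfrat, -⟩ := olv_gen_main p hS F hF F1 F0 H hF0F hF10 hcr hB
  refine ⟨hF0F, stronglyClosed_top F, ?_, ?_⟩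
  · intro P hPS φ hφ α hα
    obtain ⟨χ, hχ, hχv⟩ := hSI P hPS φ hφ (fun x => (F0.le_of_mem hφ).2 x)
      (S.subtype.comp α.toMonoidHom) ((Fusion.mem_autGroup_iff F le_rfl α).mp hα)
    exact ⟨χ, hχ, fun x hφx hαx => hχv x hαx⟩
  · intro P _ φ hφ
    exact hfrat P φ hφ

/-- The generated system is normal in `F` as soon as it is saturated. -/
theorem olv_gen_isNormalIn [Finite S] (p : ℕ) [Fact p.Prime] (hS : IsPGroup p S)
    (F : FusionSystem S) (hF : F.IsSaturated p) (F1 F0 : FusionSystem S) (H : Set (Subgroup Ω))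
    (hF0F : F0.IsSubsystemOf F) (hF1F : F1.IsSubsystemOf F)
    (hF10 : ∀ P ∈ H, F1.Hom P ⊆ F0.Hom P)
    (hmin : ∀ D : FusionSystem S, (∀ P ∈ H, F1.Hom P ⊆ D.Hom P) → F0.IsSubsystemOf D)
    (hHconj : ∀ P ∈ H, ∀ Q : Subgroup Ω, F.IsConj P Q → Q ∈ H)
    (hcr : ∀ P : Subgroup Ω, F.IsCentric P → F.IsRadical p P → P ∈ H)
    (hB : ∀ P : Subgroup Ω, P ≤ S → ∀ α ∈ F.autGroup P, ∀ k : ℕ, orderOf α = p ^ k →
      α ∈ F1.autGroup P)
    (hst : SItop F F1) (hsat : F0.IsSaturated p) : F0.IsNormalIn F p :=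
  olv_isNormalIn_of_isWeaklyNormalIn_top F0 F p
    ⟨hsat, hF, olv_gen_isInvariantIn p hS F hF F1 F0 H hF0F hF1F hF10 hmin hHconj hcr hB hst⟩

end Cfsg.Agent.OLV
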