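import Mathlib
import Cfsg.Prelude.Def_FusionSystem
import Cfsg.Agent.Lead.FusionSat3

set_option autoImplicit false

namespace Cfsg.Agent.OLV

open Cfsg Cfsg.FusionSystem Cfsg.Agent.Lead

variable {Ω : Type*} [Group Ω] {T : Subgroup Ω}

/-- An automorphism `γ` of `T` agreeing on `R₀` with a map `ε` carries `N_T(R₀)` into
`N_T(ε R₀)`. -/
theorem olv_aut_map_normalizerIn {R₀ : Subgroup Ω} (hR₀ : R₀ ≤ T) (γ : MulAut T) (ε : R₀ →* Ω)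
    (hεγ : ∀ r : R₀, ε r = ((γ ⟨r, hR₀ r.2⟩ : T) : Ω)) (x : Ω) (hx : x ∈ normalizerIn T R₀) :
    ((γ ⟨x, (Subgroup.mem_inf.mp hx).1⟩ : T) : Ω) ∈ normalizerIn T ε.range := by
  have key : ∀ (x : Ω) (hx : x ∈ normalizerIn T R₀), ∀ y ∈ ε.range,
      ((γ ⟨x, (Subgroup.mem_inf.mp hx).1⟩ : T) : Ω) * y *
        ((γ ⟨x, (Subgroup.mem_inf.mp hx).1⟩ : T) : Ω)⁻¹ ∈ ε.range := by
    rintro x hx _ ⟨r, rfl⟩
    have hxN := (Subgroup.mem_inf.mp hx).2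
    have hxr : x * (r : Ω) * x⁻¹ ∈ R₀ := (Subgroup.mem_normalizer_iff.mp hxN r).mp r.2
    refine ⟨⟨x * r * x⁻¹, hxr⟩, ?_⟩
    rw [hεγ, hεγ]
    have : (⟨x * (r : Ω) * x⁻¹, hR₀ hxr⟩ : T) =
        ⟨x, (Subgroup.mem_inf.mp hx).1⟩ * ⟨r, hR₀ r.2⟩ * ⟨x, (Subgroup.mem_inf.mp hx).1⟩⁻¹ := rfl
    rw [this, map_mul, map_mul, map_inv]
    rfl
  refine Subgroup.mem_inf.mpr ⟨(γ _).2, ?_⟩
  rw [Subgroup.mem_normalizer_iff]
  intro y
  constructor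
  · exact key x hx y
  · intro hy
    have hx' : x⁻¹ ∈ normalizerIn T R₀ := Subgroup.inv_mem _ hx
    have h2 := key x⁻¹ hx' _ hy
    have e : (γ ⟨x⁻¹, (Subgroup.mem_inf.mp hx').1⟩ : T) =
        (γ ⟨x, (Subgroup.mem_inf.mp hx).1⟩)⁻¹ := by
      rw [← map_inv]; rfl
    rw [e] at h2
    simpa [mul_assoc] using h2

/-- Claim C, the part inside `E`: for `E` saturated over `T`, `R₀ ≤ T` an `E`-centric subgroup and
`ε ∈ Hom_E(R₀, T)` the restriction of an automorphism `γ` of `T`, the map `ε` extends to a map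
`ε₁` of `E` on `N_T(R₀)` with `ε₁ x ∈ γ(x) Z(ε R₀)` for all `x`. -/
theorem olv_extend_normalizer [Finite T] (p : ℕ) [Fact p.Prime] (hT : IsPGroup p T)
    (E : FusionSystem T) (hE : E.IsSaturated p) {R₀ : Subgroup Ω} (hc : E.IsCentric R₀)
    (γ : MulAut T) {ε : R₀ →* Ω} (hε : ε ∈ E.Hom R₀)
    (hεγ : ∀ r : R₀, ε r = ((γ ⟨r, hc.1 r.2⟩ : T) : Ω)) :
    ∃ ε₁ ∈ E.Hom (normalizerIn T R₀),
      (∀ (r : Ω) (hr : r ∈ R₀), ε₁ ⟨r, Fusion.le_normalizerIn hc.1 hr⟩ = ε ⟨r, hr⟩) ∧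
      ∀ x : normalizerIn T R₀, ∃ z ∈ ε.range ⊓ Subgroup.centralizer (ε.range : Set Ω),
        ε₁ x = ((γ ⟨x, (Subgroup.mem_inf.mp x.2).1⟩ : T) : Ω) * z := by
  have hR₀T : R₀ ≤ T := hc.1
  have hR₁T : ε.range ≤ T := Fusion.range_le E hε
  have hconj01 : E.IsConj R₀ ε.range := ⟨ε, hε, rfl⟩
  obtain ⟨R₂, hR₁R₂, hR₂fn⟩ := Fusion.exists_isConj_fullyNormalized E hR₁T
  have hfcfa := Fusion.fullyCentralized_fullyAutomized_of_fullyNormalized p hT E hE hR₂fn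
  have hR₂rec := Fusion.receptive_of_fullyCentralized p hT E hE hfcfa.1
  have hR₂T : R₂ ≤ T := hR₂fn.1
  have hc2 : centralizerIn T R₂ ≤ R₂ := hc.2 R₂ (Fusion.isConj_trans E hconj01 hR₁R₂)
  obtain ⟨ψ, hψ, hψr, hψle⟩ := Fusion.exists_hom_normalizerIn_le_extender p hT E hfcfa.2 hR₁R₂
  obtain ⟨μ, hμ, hμN, hμψ⟩ :=
    Fusion.exists_hom_normalizerIn_of_le_extender E hR₂rec hψ hψr hψle
  have hψinj := E.injective_of_mem hψ
  have hμinj := E.injective_of_mem hμ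
  -- the composite `ε' = ψ ∘ ε`
  have hεR₁ : ∀ x : R₀, ε x ∈ ε.range := fun x => ⟨x, rfl⟩
  have hε' := E.comp_mem hε hψ hεR₁
  set ε' : R₀ →* Ω := ψ.comp (ε.codRestrict ε.range hεR₁) with hε'def
  have hε'app : ∀ r : R₀, ε' r = ψ ⟨ε r, hεR₁ r⟩ := fun r => rfl
  have hε'r : ε'.range = R₂ := by
    rw [← hψr]
    ext y
    constructor
    · rintro ⟨r, rfl⟩
      exact ⟨_, rfl⟩
    · rintro ⟨⟨_, ⟨r, rfl⟩⟩, rfl⟩
      exact ⟨r, rfl⟩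
  -- `γ` carries `N_T(R₀)` into `N_T(R₁)`
  have hγN : ∀ x : normalizerIn T R₀,
      ((γ ⟨x, (Subgroup.mem_inf.mp x.2).1⟩ : T) : Ω) ∈ normalizerIn T ε.range :=
    fun x => olv_aut_map_normalizerIn hR₀T γ ε hεγ x x.2
  -- the conjugation formula
  have hformula : ∀ (x : normalizerIn T R₀) (r : R₀) (hxr : (x : Ω) * r * (x : Ω)⁻¹ ∈ R₀),
      ε' ⟨(x : Ω) * r * (x : Ω)⁻¹, hxr⟩ =
        μ ⟨_, hγN x⟩ * ε' r * (μ ⟨_, hγN x⟩)⁻¹ := by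
    intro x r hxr
    rw [hε'app, hε'app]
    rw [← hμψ _ (hεR₁ r), ← hμψ _ (hεR₁ ⟨_, hxr⟩), ← map_inv, ← map_mul, ← map_mul]
    congr 1
    apply Subtype.ext
    show ε ⟨(x : Ω) * r * (x : Ω)⁻¹, hxr⟩ = _
    rw [hεγ]
    have : (⟨(x : Ω) * (r : Ω) * (x : Ω)⁻¹, hR₀T hxr⟩ : T) =
        ⟨x, (Subgroup.mem_inf.mp x.2).1⟩ * ⟨r, hR₀T r.2⟩ *
          ⟨x, (Subgroup.mem_inf.mp x.2).1⟩⁻¹ := rfl
    rw [this, map_mul, map_mul, map_inv]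
    show _ = ((γ ⟨x, _⟩ : T) : Ω) * ε r * ((γ ⟨x, _⟩ : T) : Ω)⁻¹
    rw [hεγ]
    rfl
  -- so `N_T(R₀)` lies in the extender of `ε'`
  have hle : normalizerIn T R₀ ≤ extender T R₀ ε' := by
    intro x hx
    apply Subgroup.subset_closure
    refine ⟨(Subgroup.mem_inf.mp hx).1, (Subgroup.mem_inf.mp hx).2, μ ⟨_, hγN ⟨x, hx⟩⟩,
      (Subgroup.mem_inf.mp (hμN _)).1, ?_⟩
    intro r hxr
    exact hformula ⟨x, hx⟩ r hxr
  obtain ⟨ε'₁, hε'₁, hε'₁N, hε'₁ext⟩ :=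
    Fusion.exists_hom_normalizerIn_of_le_extender E hR₂rec hε' hε'r hle
  -- the discrepancy is central in `R₁`
  have hdisc : ∀ x : normalizerIn T R₀, ∃ z : Ω, ∃ hz : z ∈ ε.range,
      z ∈ Subgroup.centralizer (ε.range : Set Ω) ∧
      ε'₁ x = μ ⟨_, hγN x⟩ * ψ ⟨z, hz⟩ := by
    intro x
    have hxN := (Subgroup.mem_inf.mp x.2).2
    set a := ε'₁ x with ha
    set b := μ ⟨_, hγN x⟩ with hb
    have haT : a ∈ T := (Subgroup.mem_inf.mp (hε'₁N x)).1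
    have hbT : b ∈ T := (Subgroup.mem_inf.mp (hμN _)).1
    have hsame : ∀ r : R₀, a * ε' r * a⁻¹ = b * ε' r * b⁻¹ := by
      intro r
      have hxr : (x : Ω) * r * (x : Ω)⁻¹ ∈ R₀ := (Subgroup.mem_normalizer_iff.mp hxN r).mp r.2
      rw [← hformula x r hxr, ← hε'₁ext _ hxr, ← hε'₁ext _ r.2, ha, ← map_inv, ← map_mul,
        ← map_mul]
      rfl
    have hu : b⁻¹ * a ∈ centralizerIn T R₂ := by
      refine Subgroup.mem_inf.mpr ⟨T.mul_mem (T.inv_mem hbT) haT, ?_⟩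
      rw [Subgroup.mem_centralizer_iff]
      intro y hy
      rw [SetLike.mem_coe, ← hε'r] at hy
      obtain ⟨r, rfl⟩ := hy
      have h1 := hsame r
      calc ε' r * (b⁻¹ * a) = b⁻¹ * (b * ε' r * b⁻¹) * a := by group
        _ = b⁻¹ * (a * ε' r * a⁻¹) * a := by rw [h1]
        _ = b⁻¹ * a * ε' r := by group
    have hu2 : b⁻¹ * a ∈ R₂ := hc2 hu
    rw [← hψr] at hu2
    obtain ⟨⟨z, hz⟩, hzu⟩ := hu2
    refine ⟨z, hz, ?_, ?_⟩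
    · rw [Subgroup.mem_centralizer_iff]
      intro w hw
      have hcu := (Subgroup.mem_centralizer_iff.mp (Subgroup.mem_inf.mp hu).2)
        (ψ ⟨w, hw⟩) (by rw [SetLike.mem_coe, ← hψr]; exact ⟨_, rfl⟩)
      rw [← hzu, ← map_mul, ← map_mul] at hcu
      have := hψinj hcu
      exact congrArg Subtype.val this
    · rw [hzu]; group
  -- the inverse of `μ`
  obtain ⟨μ', hμ', hμ'inv⟩ := E.inv_mem hμ
  have hR₁N : ε.range ≤ normalizerIn T ε.range := Fusion.le_normalizerIn hR₁T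
  have hrange : ∀ x : normalizerIn T R₀, ε'₁ x ∈ μ.range := by
    intro x
    obtain ⟨z, hz, -, hxz⟩ := hdisc x
    rw [hxz, ← hμψ z hz, ← map_mul]
    exact ⟨_, rfl⟩
  have hε₁ := E.comp_mem hε'₁ hμ' hrange
  refine ⟨_, hε₁, ?_, ?_⟩
  · intro r hr
    show μ' ⟨ε'₁ ⟨r, _⟩, _⟩ = _
    have h1 : ε'₁ ⟨r, Fusion.le_normalizerIn hR₀T hr⟩ = μ ⟨ε ⟨r, hr⟩, hR₁N (hεR₁ ⟨r, hr⟩)⟩ := by
      rw [hε'₁ext r hr, hε'app, hμψ]
    have h2 := hμ'inv ⟨ε ⟨r, hr⟩, hR₁N (hεR₁ ⟨r, hr⟩)⟩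
    refine Eq.trans ?_ h2
    congr 1
    exact Subtype.ext h1
  · intro x
    obtain ⟨z, hz, hzc, hxz⟩ := hdisc x
    refine ⟨z, Subgroup.mem_inf.mpr ⟨hz, hzc⟩, ?_⟩
    show μ' ⟨ε'₁ x, _⟩ = _
    have h1 : ε'₁ x = μ (⟨_, hγN x⟩ * ⟨z, hR₁N hz⟩) := by
      rw [hxz, ← hμψ z hz, ← map_mul]
    have h2 := hμ'inv (⟨_, hγN x⟩ * ⟨z, hR₁N hz⟩)
    refine Eq.trans ?_ h2
    congr 1
    exact Subtype.ext h1

/-- An automorphism of a finite `p`-group that fixes a subgroup `Z` pointwise and moves every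
element inside its coset of `Z` has `p`-power order. -/
theorem olv_pElement_of_central_shift {N : Type*} [Group N] [Finite N] (p : ℕ) [hp : Fact p.Prime]
    (hN : IsPGroup p N) (ρ : MulAut N) (Z : Subgroup N) (hfix : ∀ z ∈ Z, ρ z = z)
    (hshift : ∀ y : N, y⁻¹ * ρ y ∈ Z) : ∃ k : ℕ, orderOf ρ = p ^ k := by
  have hpow : ∀ (k : ℕ) (y : N), (ρ ^ k) y = y * (y⁻¹ * ρ y) ^ k := by
    intro k
    induction k with
    | zero => intro y; simp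
    | succ k ih =>
      intro y
      rw [pow_succ', MulAut.mul_apply, ih, map_mul, map_pow, hfix _ (hshift y), pow_succ',
        ← mul_assoc, mul_inv_cancel_left]
  obtain ⟨n, hn⟩ := hN.exists_card_eq
  have hone : ρ ^ (p ^ n) = 1 := by
    ext y
    rw [hpow, ← hn, pow_card_eq_one', mul_one]
    rfl
  obtain ⟨k, -, hk⟩ := (Nat.dvd_prime_pow hp.out).mp (orderOf_dvd_of_pow_eq_one hone)
  exact ⟨k, hk⟩

end Cfsg.Agent.OLV
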