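import Mathlib
import Cfsg.Prelude.Def_FusionComponents
import Cfsg.Agent.OLV.Basic
import Cfsg.Agent.OLV.Props

/-!
S5243 (Oliver's lemma), piece P4b (helper7): the frozen hypotheses give the data `Setup F E K` with
`K` the kernel of `χ`.
-/

set_option autoImplicit false

namespace Cfsg.Agent.OLV

open Cfsg Cfsg.FusionSystem Cfsg.Agent.Lead Cfsg.Agent.Lead.StrongInv Cfsg.Agent.Lead.PrimeIdx

variable {Ω : Type*} [Group Ω] {S T : Subgroup Ω}

/-- The kernel of `χ`, as a subgroup of `Aut(T)`. -/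
def olvKer (F : FusionSystem S) {Δ : Type*} [Group Δ] (χ : ↥(F.autGroup T) →* Δ) :
    Subgroup (MulAut T) :=
  χ.ker.map (F.autGroup T).subtype

theorem mem_olvKer (F : FusionSystem S) {Δ : Type*} [Group Δ] (χ : ↥(F.autGroup T) →* Δ)
    (a : MulAut T) : a ∈ olvKer F χ ↔ ∃ ha : a ∈ F.autGroup T, χ ⟨a, ha⟩ = 1 := by
  constructor
  · rintro ⟨b, hb, rfl⟩
    exact ⟨b.2, hb⟩
  · rintro ⟨ha, h1⟩
    exact ⟨⟨a, ha⟩, h1, rfl⟩

/-- A `p`-element is killed by a homomorphism into a group of order prime to `p`. -/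
theorem olv_map_eq_one_of_pElement {A Δ : Type*} [Group A] [Group Δ] [Finite Δ] (p : ℕ)
    (hΔ : (Nat.card Δ).Coprime p) (χ : A →* Δ) (a : A) (k : ℕ) (hk : orderOf a = p ^ k) :
    χ a = 1 := by
  have h1 : orderOf (χ a) ∣ p ^ k := hk ▸ orderOf_map_dvd χ a
  have h2 : orderOf (χ a) ∣ Nat.card Δ := orderOf_dvd_natCard (χ a)
  have h3 : orderOf (χ a) ∣ Nat.gcd (Nat.card Δ) (p ^ k) := Nat.dvd_gcd h2 h1
  have h4 : Nat.gcd (Nat.card Δ) (p ^ k) = 1 := Nat.Coprime.pow_right k hΔ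
  rw [h4, Nat.dvd_one, orderOf_eq_one_iff] at h3
  exact h3

theorem olv_setup_of_chi [Finite S] (p : ℕ) [Fact p.Prime] (hS : IsPGroup p S)
    (F : FusionSystem S) (E : FusionSystem T) (hE : E.IsNormalIn F p)
    {Δ : Type*} [Group Δ] [Finite Δ] (hΔ : (Nat.card Δ).Coprime p)
    (χ : ↥(F.autGroup T) →* Δ)
    (hker : (E.autGroup T).subgroupOf (F.autGroup T) ≤ χ.ker) :
    Setup F E (olvKer F χ) := by
  have hinv : E.IsInvariantIn F := hE.1.2.2
  have hTS : T ≤ S := hinv.2.1.1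
  refine ⟨hinv, ?_, ?_, ?_, ?_⟩
  · rintro _ ⟨a, -, rfl⟩
    exact a.2
  · intro u hu
    have huF : u ∈ F.autGroup T := Fusion.autInducedBy_le_autGroup F hTS hu
    obtain ⟨k, hk⟩ := exists_orderOf_of_isPGroup p (Fusion.isPGroup_autInducedBy p hS T) hu
    refine (mem_olvKer F χ u).mpr ⟨huF, ?_⟩
    apply olv_map_eq_one_of_pElement p hΔ χ _ k
    rw [Subgroup.orderOf_mk, hk]
  · intro a ha k hk
    obtain ⟨hkF, hk1⟩ := (mem_olvKer F χ k).mp hk
    refine (mem_olvKer F χ _).mpr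
      ⟨(F.autGroup T).mul_mem ((F.autGroup T).mul_mem ha hkF) ((F.autGroup T).inv_mem ha), ?_⟩
    have : (⟨a * k * a⁻¹, (F.autGroup T).mul_mem ((F.autGroup T).mul_mem ha hkF)
        ((F.autGroup T).inv_mem ha)⟩ : ↥(F.autGroup T)) = ⟨a, ha⟩ * ⟨k, hkF⟩ * ⟨a, ha⟩⁻¹ := rfl
    rw [this, map_mul, map_mul, hk1, map_inv, mul_one, mul_inv_cancel]
  · intro a ha
    have haF : a ∈ F.autGroup T := autGroup_le_of_subsystem F E hinv.1 T ha
    refine (mem_olvKer F χ a).mpr ⟨haF, ?_⟩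
    have h1 : (⟨a, haF⟩ : ↥(F.autGroup T)) ∈ (E.autGroup T).subgroupOf (F.autGroup T) := by
      rw [Subgroup.mem_subgroupOf]
      exact ha
    exact hker h1

end Cfsg.Agent.OLV
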