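import Mathlib
import Cfsg.Prelude.Def_FusionComponents
import Cfsg.Agent.OLV.Basic
import Cfsg.Agent.OLV.Props
import Cfsg.Agent.OLV.NormalGen
import Cfsg.Agent.OLV.SetupChi

/-!
S5243 (Oliver's lemma), piece P4b (helper7): the assembly of the conclusion of S5243 from the
properties of the auxiliary system `olvSys` and of the system `F0` it generates on the family `H`.
Everything about `F0` and `H` enters through hypotheses, so that this file does not depend on the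
way they are defined.
-/

set_option autoImplicit false

namespace Cfsg.Agent.OLV

open Cfsg Cfsg.FusionSystem Cfsg.Agent.Lead Cfsg.Agent.Lead.StrongInv Cfsg.Agent.Lead.PrimeIdx

variable {Ω : Type*} [Group Ω] {S T : Subgroup Ω}

/-- The automorphisms of `S` in the generated system. -/
theorem olv_gen_autGroup_top [Finite T] {F : FusionSystem S} {E : FusionSystem T}
    {Δ : Type*} [Group Δ] (χ : ↥(F.autGroup T) →* Δ) (hset : Setup F E (olvKer F χ))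
    (hTS : T ≤ S) (F0 : FusionSystem S) (H : Set (Subgroup Ω))
    (hF10 : ∀ P ∈ H, (olvSys hset).Hom P ⊆ F0.Hom P)
    (hmin : ∀ D : FusionSystem S, (∀ P ∈ H, (olvSys hset).Hom P ⊆ D.Hom P) → F0.IsSubsystemOf D)
    (hSH : S ∈ H) (α : MulAut ↥S) :
    α ∈ F0.autGroup S ↔ α ∈ F.autGroup S ∧ ∃ β : ↥(F.autGroup T), χ β = 1 ∧
      ∀ t : ↥T, (((β : MulAut ↥T) t : ↥T) : Ω) = ((α ⟨(t : Ω), hTS t.2⟩ : ↥S) : Ω) := by
  have h1 : α ∈ F0.autGroup S ↔ α ∈ (olvSys hset).autGroup S := by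
    rw [Fusion.mem_autGroup_iff _ le_rfl, Fusion.mem_autGroup_iff _ le_rfl]
    exact ⟨fun h => hmin (olvSys hset) (fun _ _ => subset_rfl) S h, fun h => hF10 S hSH h⟩
  rw [h1, olvSys_autGroup_top hset α]
  constructor
  · rintro ⟨hα, a, ha, hav⟩
    obtain ⟨haF, ha1⟩ := (mem_olvKer F χ a).mp ha
    exact ⟨hα, ⟨a, haF⟩, ha1, fun t => hav t⟩
  · rintro ⟨hα, β, hβ1, hβv⟩
    exact ⟨hα, (β : MulAut ↥T), (mem_olvKer F χ _).mpr ⟨β.2, hβ1⟩, fun t => hβv t⟩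

/-- The conclusion of S5243 for the generated system `F0`. -/
theorem olv_assembly [Finite S] [Finite T] (p : ℕ) [Fact p.Prime] (hS : IsPGroup p S)
    (F : FusionSystem S) (hF : F.IsSaturated p) (hTS : T ≤ S) (E : FusionSystem T)
    {Δ : Type*} [Group Δ] [Nontrivial Δ] (χ : ↥(F.autGroup T) →* Δ)
    (hset : Setup F E (olvKer F χ))
    (F0 : FusionSystem S) (H : Set (Subgroup Ω))
    (hF0F : F0.IsSubsystemOf F)
    (hF10 : ∀ P ∈ H, (olvSys hset).Hom P ⊆ F0.Hom P)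
    (hmin : ∀ D : FusionSystem S, (∀ P ∈ H, (olvSys hset).Hom P ⊆ D.Hom P) → F0.IsSubsystemOf D)
    (hHconj : ∀ P ∈ H, ∀ Q : Subgroup Ω, F.IsConj P Q → Q ∈ H)
    (hcr : ∀ P : Subgroup Ω, F.IsCentric P → F.IsRadical p P → P ∈ H)
    (hB : ∀ P : Subgroup Ω, P ≤ S → ∀ α ∈ F.autGroup P, ∀ k : ℕ, orderOf α = p ^ k →
      α ∈ (olvSys hset).autGroup P)
    (hst : SItop F (olvSys hset))
    (hSH : S ∈ H)
    (hsat : F0.IsSaturated p)
    (hEF0 : E.IsSubsystemOf F0)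
    (honto : ∀ δ : Δ, ∃ α ∈ F.autGroup S, ∃ β : ↥(F.autGroup T), χ β = δ ∧
      ∀ t : ↥T, (((β : MulAut ↥T) t : ↥T) : Ω) = ((α ⟨(t : Ω), hTS t.2⟩ : ↥S) : Ω)) :
    F0.IsNormalIn F p ∧ ¬ (∀ P : Subgroup Ω, F0.Hom P = F.Hom P) ∧ E.IsSubsystemOf F0 ∧
      (∀ α : MulAut ↥S, α ∈ F0.autGroup S ↔ α ∈ F.autGroup S ∧ ∃ β : ↥(F.autGroup T), χ β = 1 ∧
        ∀ t : ↥T, (((β : MulAut ↥T) t : ↥T) : Ω) = ((α ⟨(t : Ω), hTS t.2⟩ : ↥S) : Ω)) ∧
      ∀ R : FusionSystem S, F.IsPPrimeResidual p R → R.IsSubsystemOf F0 := by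
  have hF1F : (olvSys hset).IsSubsystemOf F := olvSys_le hset
  have haut := olv_gen_autGroup_top χ hset hTS F0 H hF10 hmin hSH
  refine ⟨?_, ?_, hEF0, haut, ?_⟩
  · exact olv_gen_isNormalIn p hS F hF (olvSys hset) F0 H hF0F hF1F hF10 hmin hHconj hcr hB hst hsat
  · intro hall
    obtain ⟨δ, hδ⟩ := exists_ne (1 : Δ)
    obtain ⟨α, hα, β, hβδ, hβv⟩ := honto δ
    have hα0 : α ∈ F0.autGroup S := by
      rw [Fusion.mem_autGroup_iff _ le_rfl, hall S, ← Fusion.mem_autGroup_iff _ le_rfl]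
      exact hα
    obtain ⟨-, β', hβ'1, hβ'v⟩ := (haut α).mp hα0
    have : β = β' := by
      apply Subtype.ext
      ext t
      rw [hβv t, hβ'v t]
    rw [this, hβ'1] at hβδ
    exact hδ hβδ.symm
  · intro R hR
    have hmain := olv_gen_main p hS F hF (olvSys hset) F0 H hF0F hF10 hcr hB
    exact hR.2.2 F0 hsat hmain.1

end Cfsg.Agent.OLV
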