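import Mathlib
import Cfsg.Prelude.Def_FusionSystem
import Cfsg.Agent.Lead.FusionCentric
import Cfsg.Agent.OLV.ClaimC0

set_option autoImplicit false

namespace Cfsg.Agent.OLV

open Cfsg Cfsg.FusionSystem Cfsg.Agent.Lead

variable {Ω : Type*} [Group Ω] {S : Subgroup Ω}

/-- The inductive step of Claim C: if `γ ∈ Aut_F(T)` restricts on the `E`-centric `R₀` to a map of
`E`, then on `N_T(R₀)` it is an element of `K` composed with a map of `E`, provided this holds for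
the `p`-elements of all `Aut_F(N)`, `N ≤ T`. -/
theorem olv_claimC_step [Finite S] (p : ℕ) [Fact p.Prime] (hS : IsPGroup p S) (F : FusionSystem S)
    {T : Subgroup Ω} (hTS : T ≤ S) (E : FusionSystem T) (hE : E.IsSaturated p)
    (hEF : E.IsSubsystemOf F) (K : Subgroup (MulAut T))
    (hB : ∀ (N : Subgroup Ω), N ≤ T → ∀ θ : MulAut N, θ ∈ F.autGroup N →
      (∃ k : ℕ, orderOf θ = p ^ k) → ∃ a ∈ K, ∃ θ₀ ∈ E.Hom N, ∀ (x : N) (hx : θ₀ x ∈ T),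
        ((θ x : N) : Ω) = ((a ⟨θ₀ x, hx⟩ : T) : Ω))
    (γ : MulAut T) (hγ : γ ∈ F.autGroup T) {R₀ : Subgroup Ω} (hc : E.IsCentric R₀)
    {ε : R₀ →* Ω} (hε : ε ∈ E.Hom R₀)
    (hεγ : ∀ r : R₀, ε r = ((γ ⟨r, hc.1 r.2⟩ : T) : Ω)) :
    ∃ a ∈ K, ∃ ε₂ ∈ E.Hom (normalizerIn T R₀), ∀ (x : normalizerIn T R₀) (hx : ε₂ x ∈ T),
      ((γ ⟨x, (Subgroup.mem_inf.mp x.2).1⟩ : T) : Ω) = ((a ⟨ε₂ x, hx⟩ : T) : Ω) := by
  have : Finite T := Fusion.finite_of_le hTS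
  have hT : IsPGroup p T := hS.to_le hTS
  have hR₀T : R₀ ≤ T := hc.1
  obtain ⟨ε₁, hε₁, hε₁ext, hε₁z⟩ := olv_extend_normalizer p hT E hE hc γ hε hεγ
  have hN₀T : normalizerIn T R₀ ≤ T := inf_le_left
  have hR₀N₀ : R₀ ≤ normalizerIn T R₀ := Fusion.le_normalizerIn hR₀T
  -- the restriction of `γ` to `N_T(R₀)`
  have hγF : T.subtype.comp γ.toMonoidHom ∈ F.Hom T := (Fusion.mem_autGroup_iff F hTS γ).mp hγ
  have hg := Fusion.restrict_mem F hγF hN₀T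
  set g : ↥(normalizerIn T R₀) →* Ω :=
    (T.subtype.comp γ.toMonoidHom).comp (Subgroup.inclusion hN₀T) with hgdef
  have hgapp : ∀ x : normalizerIn T R₀, g x = ((γ ⟨x, (Subgroup.mem_inf.mp x.2).1⟩ : T) : Ω) :=
    fun x => rfl
  have hε₁F : ε₁ ∈ F.Hom (normalizerIn T R₀) := hEF _ hε₁
  have hε₁T : ε₁.range ≤ T := Fusion.range_le E hε₁
  -- `ε.range ≤ ε₁.range`
  have hR₁le : ε.range ≤ ε₁.range := by
    rintro _ ⟨r, rfl⟩
    exact ⟨⟨r, hR₀N₀ r.2⟩, hε₁ext r r.2⟩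
  -- the two maps have the same image
  have hgr : g.range = ε₁.range := by
    ext y
    constructor
    · rintro ⟨x, rfl⟩
      obtain ⟨z, hz, hxz⟩ := hε₁z x
      have : g x = ε₁ x * z⁻¹ := by rw [hxz, hgapp]; group
      rw [this]
      exact Subgroup.mul_mem _ ⟨x, rfl⟩ (Subgroup.inv_mem _ (hR₁le (Subgroup.mem_inf.mp hz).1))
    · rintro ⟨x, rfl⟩
      obtain ⟨z, hz, hxz⟩ := hε₁z x
      obtain ⟨r, hr⟩ := (Subgroup.mem_inf.mp hz).1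
      rw [hxz, ← hgapp]
      refine Subgroup.mul_mem _ ⟨x, rfl⟩ ⟨⟨r, hR₀N₀ r.2⟩, ?_⟩
      rw [← hr, hεγ]
      rfl
  set N' := ε₁.range with hN'
  have hN'S : N' ≤ S := hε₁T.trans hTS
  have : Finite N' := Fusion.finite_of_le hN'S
  have hN'p : IsPGroup p N' := hS.to_le hN'S
  set e₁ := Fusion.equivOfRange ε₁ (F.injective_of_mem hε₁F) rfl with he₁
  set g₁ := Fusion.equivOfRange g (F.injective_of_mem hg) hgr with hg₁
  set ρ : MulAut N' := e₁.symm.trans g₁ with hρ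
  have hρapp : ∀ x : normalizerIn T R₀, ((ρ (e₁ x) : N') : Ω) = g x := by
    intro x
    show ((g₁ (e₁.symm (e₁ x)) : N') : Ω) = g x
    rw [MulEquiv.symm_apply_apply]
    rfl
  have hρF : ρ ∈ F.autGroup N' := by
    rw [Fusion.mem_autGroup_iff F hN'S]
    have h1 := Fusion.equivOfRange_symm_mem F hε₁F (rfl : ε₁.range = N')
    have h2 := F.comp_mem h1 hg (fun y => (e₁.symm y).2)
    convert h2 using 1
    ext y
    rfl
  -- `ρ` is a `p`-element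
  have hρp : ∃ k : ℕ, orderOf ρ = p ^ k := by
    apply olv_pElement_of_central_shift p hN'p ρ
      ((ε.range ⊓ Subgroup.centralizer (ε.range : Set Ω)).subgroupOf N')
    · intro z hz
      rw [Subgroup.mem_subgroupOf] at hz
      obtain ⟨r, hr⟩ := (Subgroup.mem_inf.mp hz).1
      have hz' : z = e₁ ⟨r, hR₀N₀ r.2⟩ := by
        apply Subtype.ext
        rw [← hr]
        exact (hε₁ext r r.2).symm
      apply Subtype.ext
      rw [hz', hρapp, hgapp]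
      show _ = ε₁ _
      rw [hε₁ext r r.2, hεγ]
    · intro y
      rw [Subgroup.mem_subgroupOf]
      obtain ⟨x, rfl⟩ := e₁.surjective y
      obtain ⟨z, hz, hxz⟩ := hε₁z x
      have h1 : (((e₁ x)⁻¹ * ρ (e₁ x) : N') : Ω) = z⁻¹ := by
        show ((e₁ x : N') : Ω)⁻¹ * ((ρ (e₁ x) : N') : Ω) = z⁻¹
        rw [hρapp, hgapp]
        show (ε₁ x)⁻¹ * _ = _
        rw [hxz]; group
      rw [h1]
      exact Subgroup.inv_mem _ hz
  obtain ⟨a, haK, θ₀, hθ₀, hθ₀v⟩ := hB N' hε₁T ρ hρF hρp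
  have hε₁N' : ∀ x : normalizerIn T R₀, ε₁ x ∈ N' := fun x => ⟨x, rfl⟩
  refine ⟨a, haK, _, E.comp_mem hε₁ hθ₀ hε₁N', ?_⟩
  intro x hx
  have h1 := hθ₀v (e₁ x) hx
  rw [hρapp, hgapp] at h1
  exact h1

/-- Claim C: if `γ ∈ Aut_F(T)` restricts on an `E`-centric subgroup `R₀` to an element of `K`
composed with a map of `E`, then `γ ∈ K`. Here `K` is any subgroup of `Aut_F(T)` containing
`Aut_E(T)` such that every `p`-element of every `Aut_F(N)`, `N ≤ T`, is an element of `K` composed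
with a map of `E`. -/
theorem olv_claimC [Finite S] (p : ℕ) [Fact p.Prime] (hS : IsPGroup p S) (F : FusionSystem S)
    {T : Subgroup Ω} (hTS : T ≤ S) (E : FusionSystem T) (hE : E.IsSaturated p)
    (hEF : E.IsSubsystemOf F) (K : Subgroup (MulAut T)) (hKF : K ≤ F.autGroup T)
    (hEK : E.autGroup T ≤ K)
    (hB : ∀ (N : Subgroup Ω), N ≤ T → ∀ θ : MulAut N, θ ∈ F.autGroup N →
      (∃ k : ℕ, orderOf θ = p ^ k) → ∃ a ∈ K, ∃ θ₀ ∈ E.Hom N, ∀ (x : N) (hx : θ₀ x ∈ T),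
        ((θ x : N) : Ω) = ((a ⟨θ₀ x, hx⟩ : T) : Ω))
    (γ : MulAut T) (hγ : γ ∈ F.autGroup T) {R₀ : Subgroup Ω} (hc : E.IsCentric R₀)
    (hres : ∃ d ∈ K, ∃ ε ∈ E.Hom R₀, ∀ (x : R₀) (hx : ε x ∈ T),
      ((γ ⟨x, hc.1 x.2⟩ : T) : Ω) = ((d ⟨ε x, hx⟩ : T) : Ω)) : γ ∈ K := by
  have : Finite T := Fusion.finite_of_le hTS
  have hT : IsPGroup p T := hS.to_le hTS
  -- strong induction on `|T| - |R₀|`
  have main : ∀ (n : ℕ) (γ : MulAut T) (R₀ : Subgroup Ω) (hc : E.IsCentric R₀),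
      γ ∈ F.autGroup T → Nat.card T - Nat.card R₀ = n →
      (∃ d ∈ K, ∃ ε ∈ E.Hom R₀, ∀ (x : R₀) (hx : ε x ∈ T),
        ((γ ⟨x, hc.1 x.2⟩ : T) : Ω) = ((d ⟨ε x, hx⟩ : T) : Ω)) → γ ∈ K := by
    intro n
    induction n using Nat.strong_induction_on with
    | _ n ih =>
      intro γ R₀ hc hγ hn ⟨d, hdK, ε, hε, hγd⟩
      have hR₀T : R₀ ≤ T := hc.1
      have hεT : ∀ x : R₀, ε x ∈ T := fun x => Fusion.map_mem E hε x
      -- replace `γ` by `γ' = d⁻¹ γ`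
      have hγ' : d⁻¹ * γ ∈ F.autGroup T :=
        Subgroup.mul_mem _ (Subgroup.inv_mem _ (hKF hdK)) hγ
      have hεγ' : ∀ r : R₀, ε r = (((d⁻¹ * γ) ⟨r, hR₀T r.2⟩ : T) : Ω) := by
        intro r
        rw [MulAut.mul_apply]
        have h1 : γ ⟨r, hR₀T r.2⟩ = d ⟨ε r, hεT r⟩ := Subtype.ext (hγd r (hεT r))
        rw [h1, MulAut.inv_apply_self]
      suffices hsuff : d⁻¹ * γ ∈ K by
        have : γ = d * (d⁻¹ * γ) := by group
        rw [this]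
        exact Subgroup.mul_mem _ hdK hsuff
      by_cases hRT : R₀ = T
      · subst hRT
        apply hEK
        rw [Fusion.mem_autGroup_iff E le_rfl]
        convert hε using 1
        ext r
        exact (hεγ' r).symm
      · -- the inductive step
        obtain ⟨a, haK, ε₂, hε₂, hv⟩ :=
          olv_claimC_step p hS F hTS E hE hEF K hB (d⁻¹ * γ) hγ' hc hε hεγ'
        have hN₀T : normalizerIn T R₀ ≤ T := inf_le_left
        have hcN : E.IsCentric (normalizerIn T R₀) :=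
          Fusion.isCentric_of_le E (Fusion.le_normalizerIn hR₀T) hN₀T hc
        have hlt : Nat.card R₀ < Nat.card (normalizerIn T R₀) :=
          Fusion.card_lt_card_normalizerIn hT hR₀T hRT
        have hleT : Nat.card (normalizerIn T R₀) ≤ Nat.card T := Subgroup.card_le_of_le hN₀T
        have hlt' : Nat.card T - Nat.card (normalizerIn T R₀) < n := by omega
        exact ih _ hlt' (d⁻¹ * γ) (normalizerIn T R₀) hcN hγ' rfl ⟨a, haK, ε₂, hε₂, hv⟩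
  exact main _ γ R₀ hc hγ rfl hres

/-- Going up: a map `ψ` of `F` on `N ≤ T` whose restriction to an `E`-centric subgroup `R ≤ N` is
an element of `K` composed with a map of `E` is itself of this form. -/
theorem olv_going_up [Finite S] (p : ℕ) [Fact p.Prime] (hS : IsPGroup p S) (F : FusionSystem S)
    {T : Subgroup Ω} (hTS : T ≤ S) (E : FusionSystem T) (hE : E.IsSaturated p)
    (hinv : E.IsInvariantIn F) (K : Subgroup (MulAut T)) (hKF : K ≤ F.autGroup T)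
    (hEK : E.autGroup T ≤ K)
    (hB : ∀ (N : Subgroup Ω), N ≤ T → ∀ θ : MulAut N, θ ∈ F.autGroup N →
      (∃ k : ℕ, orderOf θ = p ^ k) → ∃ a ∈ K, ∃ θ₀ ∈ E.Hom N, ∀ (x : N) (hx : θ₀ x ∈ T),
        ((θ x : N) : Ω) = ((a ⟨θ₀ x, hx⟩ : T) : Ω))
    {N : Subgroup Ω} (hNT : N ≤ T) {ψ : N →* Ω} (hψ : ψ ∈ F.Hom N) {R : Subgroup Ω} (hRN : R ≤ N)
    (hc : E.IsCentric R)
    (hres : ∃ a₀ ∈ K, ∃ φ₀ ∈ E.Hom R, ∀ (x : R) (hx : φ₀ x ∈ T),
      ψ ⟨x, hRN x.2⟩ = ((a₀ ⟨φ₀ x, hx⟩ : T) : Ω)) :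
    ∃ a ∈ K, ∃ φ₁ ∈ E.Hom N, ∀ (x : N) (hx : φ₁ x ∈ T), ψ x = ((a ⟨φ₁ x, hx⟩ : T) : Ω) := by
  obtain ⟨a₀, ha₀K, φ₀, hφ₀, hv₀⟩ := hres
  obtain ⟨α, hα, φ₁, hφ₁, hv₁⟩ := hinv.2.2.2 N hNT ψ hψ
  have hEF : E.IsSubsystemOf F := hinv.1
  have hφ₁T : ∀ x : N, φ₁ x ∈ T := fun x => Fusion.map_mem E hφ₁ x
  have hφ₀T : ∀ x : R, φ₀ x ∈ T := fun x => Fusion.map_mem E hφ₀ x
  -- the restriction of `φ₁` to `R` and its image `R'`
  have hφ₁R := Fusion.restrict_mem E hφ₁ hRN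
  set φ₁R : R →* Ω := φ₁.comp (Subgroup.inclusion hRN) with hφ₁Rdef
  obtain ⟨η, hη, hηinv, hηr⟩ := Fusion.exists_inv E hφ₁R (rfl : φ₁R.range = φ₁R.range)
  have hcR' : E.IsCentric φ₁R.range :=
    ⟨Fusion.range_le E hφ₁R, fun Q hQ => hc.2 Q (Fusion.isConj_trans E ⟨φ₁R, hφ₁R, rfl⟩ hQ)⟩
  have hηR : ∀ y : φ₁R.range, η y ∈ R := fun y => (le_of_eq hηr) ⟨y, rfl⟩
  have hε := E.comp_mem hη hφ₀ hηR
  suffices hsuff : a₀⁻¹ * α ∈ K by
    refine ⟨α, ?_, φ₁, hφ₁, hv₁⟩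
    have : α = a₀ * (a₀⁻¹ * α) := by group
    rw [this]
    exact Subgroup.mul_mem _ ha₀K hsuff
  have hγ : a₀⁻¹ * α ∈ F.autGroup T := Subgroup.mul_mem _ (Subgroup.inv_mem _ (hKF ha₀K)) hα
  apply olv_claimC p hS F hTS E hE hEF K hKF hEK hB (a₀⁻¹ * α) hγ hcR'
  refine ⟨1, Subgroup.one_mem _, _, hε, ?_⟩
  rintro ⟨_, ⟨r, rfl⟩⟩ hx
  show (((a₀⁻¹ * α) ⟨φ₁R r, _⟩ : T) : Ω) = φ₀ ⟨η ⟨φ₁R r, _⟩, _⟩
  have h1 : η ⟨φ₁R r, ⟨r, rfl⟩⟩ = (r : Ω) := hηinv r ⟨r, rfl⟩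
  have h2 : (⟨η ⟨φ₁R r, ⟨r, rfl⟩⟩, hηR ⟨φ₁R r, ⟨r, rfl⟩⟩⟩ : R) = r := Subtype.ext h1
  rw [h2, MulAut.mul_apply]
  have h3 : α ⟨φ₁R r, hφ₁T ⟨r, hRN r.2⟩⟩ = a₀ ⟨φ₀ r, hφ₀T r⟩ := by
    apply Subtype.ext
    rw [← hv₀ r (hφ₀T r)]
    exact (hv₁ ⟨r, hRN r.2⟩ (hφ₁T _)).symm
  rw [h3, MulAut.inv_apply_self]

end Cfsg.Agent.OLV
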