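import Mathlib
import Cfsg.Prelude.Def_FusionSystem
import Cfsg.Agent.OLV.Props
import Cfsg.Agent.OLV.ClaimC

set_option autoImplicit false

/-!
# S5243, Claim C and the going-up corollary for the auxiliary system `olvSys`
-/

namespace Cfsg.Agent.OLV

open Cfsg Cfsg.FusionSystem Cfsg.Agent.Lead

variable {Ω : Type*} [Group Ω] {S T : Subgroup Ω}
variable {F : FusionSystem S} {E : FusionSystem T} {K : Subgroup (MulAut T)}

/-- The hypothesis (B) on `p`-elements, restricted to subgroups of `T`, in the form used by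
`olv_claimC`. -/
theorem olv_hB_of_setup [Finite T] (p : ℕ) (h : Setup F E K)
    (hB : ∀ P : Subgroup Ω, P ≤ S → ∀ a ∈ F.autGroup P, ∀ k : ℕ, orderOf a = p ^ k →
      a ∈ (olvSys h).autGroup P) :
    ∀ (N : Subgroup Ω), N ≤ T → ∀ θ : MulAut N, θ ∈ F.autGroup N →
      (∃ k : ℕ, orderOf θ = p ^ k) → ∃ a ∈ K, ∃ θ₀ ∈ E.Hom N, ∀ (x : N) (hx : θ₀ x ∈ T),
        ((θ x : N) : Ω) = ((a ⟨θ₀ x, hx⟩ : T) : Ω) := by
  rintro N hNT θ hθ ⟨k, hk⟩
  have h1 := hB N (hNT.trans h.le) θ hθ k hk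
  rw [Fusion.mem_autGroup_iff _ (hNT.trans h.le)] at h1
  have h2 := (olvSys_hom_of_le h hNT _).mp h1
  obtain ⟨a, ha, φ₀, h₀, hv⟩ := exists_of_mem_olvT h h2
  exact ⟨a, ha, φ₀, h₀, fun x hx => hv x⟩

/-- Claim C for the auxiliary system: an element of `Aut_F(T)` whose restriction to an `E`-centric
subgroup lies in `olvT` is an element of `K`. -/
theorem olv_claimC_setup [Finite S] [Finite T] (p : ℕ) [Fact p.Prime] (hS : IsPGroup p S)
    (h : Setup F E K) (hE : E.IsSaturated p)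
    (hB : ∀ P : Subgroup Ω, P ≤ S → ∀ a ∈ F.autGroup P, ∀ k : ℕ, orderOf a = p ^ k →
      a ∈ (olvSys h).autGroup P)
    (γ : MulAut T) (hγ : γ ∈ F.autGroup T) {R₀ : Subgroup Ω} (hc : E.IsCentric R₀)
    (hres : (T.subtype.comp γ.toMonoidHom).comp (Subgroup.inclusion hc.1) ∈ (olvT h).Hom R₀) :
    γ ∈ K := by
  apply olv_claimC p hS F h.le E hE h.inv.1 K h.KF h.EK (olv_hB_of_setup p h hB) γ hγ hc
  obtain ⟨d, hd, ε, hε, hv⟩ := exists_of_mem_olvT h hres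
  exact ⟨d, hd, ε, hε, fun x hx => hv x⟩

/-- Going up for the auxiliary system: a map `ψ` of `F` on `N` whose restriction to `R ≤ N` lies in
`olvSys`, where `R ⊓ T` is `E`-centric, lies in `olvSys`. -/
theorem olv_going_up_setup [Finite S] [Finite T] (p : ℕ) [Fact p.Prime] (hS : IsPGroup p S)
    (h : Setup F E K) (hE : E.IsSaturated p)
    (hB : ∀ P : Subgroup Ω, P ≤ S → ∀ a ∈ F.autGroup P, ∀ k : ℕ, orderOf a = p ^ k →
      a ∈ (olvSys h).autGroup P)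
    {N : Subgroup Ω} {ψ : N →* Ω} (hψ : ψ ∈ F.Hom N) {R : Subgroup Ω} (hRN : R ≤ N)
    (hc : E.IsCentric (R ⊓ T))
    (hres : ψ.comp (Subgroup.inclusion hRN) ∈ (olvSys h).Hom R) : ψ ∈ (olvSys h).Hom N := by
  refine ⟨hψ, ?_⟩
  have hψ' := Fusion.restrict_mem F hψ (inf_le_left : N ⊓ T ≤ N)
  have hle : R ⊓ T ≤ N ⊓ T := inf_le_inf_right T hRN
  obtain ⟨a₀, ha₀, φ₀, hφ₀, hv₀⟩ := exists_of_mem_olvT h hres.2
  obtain ⟨a, ha, φ₁, hφ₁, hv₁⟩ := olv_going_up p hS F h.le E hE h.inv K h.KF h.EK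
    (olv_hB_of_setup p h hB) (inf_le_right : N ⊓ T ≤ T) hψ' hle hc
    ⟨a₀, ha₀, φ₀, hφ₀, fun x hx => hv₀ x⟩
  exact mem_olvT_of_eq h hψ' a ha φ₁ hφ₁ (fun x => hv₁ x _)

end Cfsg.Agent.OLV
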