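import Mathlib
import Cfsg.Prelude.Def_FusionComponents
import Cfsg.Agent.OLV.Props
import Cfsg.Agent.Lead.FusionCenterFactor

set_option autoImplicit false

/-!
# S5243, part 3: the Frattini property of the auxiliary system

Every automorphism of `T` in `F` is, modulo `K`, the restriction of an automorphism of `S` in `F`;
hence every map of `F` is an automorphism of `S` followed by a map of the auxiliary system.
-/

namespace Cfsg.Agent.OLV

open Cfsg Cfsg.FusionSystem Cfsg.Agent.Lead Cfsg.Agent.Lead.StrongInv Cfsg.Agent.Lead.PrimeIdx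
open Cfsg.Agent.Lead.AutSys

variable {Ω : Type*} [Group Ω] {S T : Subgroup Ω}
variable {F : FusionSystem S} {E : FusionSystem T} {K : Subgroup (MulAut T)}

/-- Every automorphism of `T` in `F` is, modulo `K`, the restriction of an automorphism of `S`. -/
theorem olv_exists_extend [Finite S] (p : ℕ) [Fact p.Prime] (hS : IsPGroup p S)
    (hF : F.IsSaturated p) (h : Setup F E K) (b : MulAut T) (hb : b ∈ F.autGroup T) :
    ∃ m ∈ K, ∃ α ∈ F.autGroup S,
      ∀ t : T, (((m * b) t : T) : Ω) = ((α ⟨t, h.le t.2⟩ : S) : Ω) := by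
  have hTS : T ≤ S := h.le
  have hwc := Fusion.weaklyClosed_of_stronglyClosed F h.sc
  have hfn : F.IsFullyNormalized T := Fusion.fullyNormalized_of_weaklyClosed F hwc
  have hfinT : Finite T := Fusion.finite_of_le hTS
  obtain ⟨hfc, hfa⟩ := Fusion.fullyCentralized_fullyAutomized_of_fullyNormalized p hS F hF hfn
  have hrec := Fusion.receptive_of_fullyCentralized p hS F hF hfc
  have hUF : autInducedBy S T ≤ F.autGroup T := Fusion.autInducedBy_le_autGroup F hTS
  have hUp : IsPGroup p (autInducedBy S T) := Fusion.isPGroup_autInducedBy p hS T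
  have hUN : autInducedBy S T ≤ K := h.KS
  have hUcardF : Nat.card (autInducedBy S T) = p ^ (Nat.card (F.autGroup T)).factorization p :=
    (exists_sylow_eq_subgroupOf_iff (F.autGroup T) (autInducedBy S T) hUF).mp hfa.2
  have hUcardN := card_eq_ppart_of_le hUN h.KF hUp hUcardF
  have hbU : (autInducedBy S T).map (MulAut.conj b).toMonoidHom ≤ K := by
    rintro _ ⟨u, hu, rfl⟩
    exact h.Knormal b hb u (hUN hu)
  obtain ⟨m, hm, hmU⟩ := exists_conj_le_of_card_eq_ppart hUN hUcardN hbU (hUp.map _)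
  set ν := m * b with hν
  have hνF : ν ∈ F.autGroup T := Subgroup.mul_mem _ (h.KF hm) hb
  have hνV : ∀ v ∈ autInducedBy S T, ν * v * ν⁻¹ ∈ autInducedBy S T := by
    intro v hv
    have h1 : m * (b * v * b⁻¹) * m⁻¹ ∈ autInducedBy S T :=
      hmU ⟨b * v * b⁻¹, ⟨v, hv, rfl⟩, rfl⟩
    have h2 : ν * v * ν⁻¹ = m * (b * v * b⁻¹) * m⁻¹ := by rw [hν]; group
    rw [h2]; exact h1
  have hνhom := (Fusion.mem_autGroup_iff F hTS ν).mp hνF
  have hSN : S ≤ Subgroup.normalizer (T : Set Ω) := by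
    intro g hg
    have key : ∀ k ∈ S, ∀ t ∈ T, k * t * k⁻¹ ∈ T := by
      intro k hk t ht
      have hφ := F.conj_mem (P := T) (g := k) hTS hk
      exact h.sc.2 T le_rfl _ hφ ⟨t, ht⟩
    rw [Subgroup.mem_normalizer_iff]
    intro t
    constructor
    · exact key g hg t
    · intro ht
      have := key g⁻¹ (S.inv_mem hg) _ ht
      have h2 : g⁻¹ * (g * t * g⁻¹) * g⁻¹⁻¹ = t := by group
      rwa [h2] at this
  have hle : S ≤ extender S T (T.subtype.comp ν.toMonoidHom) := by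
    intro g hgS
    have hgN : g ∈ Subgroup.normalizer (T : Set Ω) := hSN hgS
    apply Subgroup.subset_closure
    refine ⟨hgS, hgN, ?_⟩
    have hcU : conjAutHom T ⟨g, hgN⟩ ∈ autInducedBy S T :=
      Fusion.conjAutHom_mem_autInducedBy T ⟨g, hgN⟩ hgS
    have h1 : ν * conjAutHom T ⟨g, hgN⟩ * ν⁻¹ ∈ autInducedBy S T := hνV _ hcU
    rw [mem_autInducedBy_iff] at h1
    obtain ⟨k, hkS, hk⟩ := h1
    refine ⟨k, hkS, fun x hx => ?_⟩
    have h2 := hk (ν x)
    show ((ν ⟨g * x * g⁻¹, hx⟩ : T) : Ω) = k * ((ν x : T) : Ω) * k⁻¹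
    rw [← h2]
    simp only [MulAut.mul_apply, MulAut.inv_apply_self]
    rfl
  obtain ⟨ψ', hψ', hext⟩ := hrec.2 T _ hνhom (range_aut T ν)
  have hα := Fusion.restrict_mem F hψ' hle
  have hr : (ψ'.comp (Subgroup.inclusion hle)).range = S :=
    (Fusion.weaklyClosed_of_stronglyClosed F (stronglyClosed_top F)).2 _ hα
  obtain ⟨α, hαA, hαv⟩ := Fusion.exists_aut_of_range_eq F hα hr
  refine ⟨m, hm, α, hαA, fun t => ?_⟩
  rw [hαv]
  exact (hext t.1 t.2 (hle (hTS t.2))).symm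

/-- The Frattini property of the auxiliary system: every map of `F` is a map of the auxiliary system
followed by an automorphism of `S`. -/
theorem olvSys_good [Finite S] [Finite T] (p : ℕ) [Fact p.Prime] (hS : IsPGroup p S)
    (hF : F.IsSaturated p) (h : Setup F E K) (P : Subgroup Ω) (φ : P →* Ω) (hφ : φ ∈ F.Hom P) :
    Good F (olvSys h) P φ := by
  have hRT : P ⊓ T ≤ T := inf_le_right
  have hφR := Fusion.restrict_mem F hφ (inf_le_left : P ⊓ T ≤ P)
  obtain ⟨a, ha, φ₀, hφ₀, hv⟩ := h.inv.2.2.2 (P ⊓ T) hRT _ hφR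
  obtain ⟨m, hm, α', hα', hmv⟩ := olv_exists_extend p hS hF h a⁻¹ (Subgroup.inv_mem _ ha)
  have hα'hom := (Fusion.mem_autGroup_iff F le_rfl α').mp hα'
  have hφS : ∀ x : P, φ x ∈ S := (F.le_of_mem hφ).2
  have hφ₁ := F.comp_mem hφ hα'hom hφS
  have hφ₀T : ∀ x : ↥(P ⊓ T), φ₀ x ∈ T := (E.le_of_mem hφ₀).2
  have hφ₁o : (S.subtype.comp α'.toMonoidHom).comp (φ.codRestrict S hφS) ∈ (olvSys h).Hom P := by
    refine ⟨hφ₁, ?_⟩
    apply mem_olvT_of_eq h (Fusion.restrict_mem F hφ₁ inf_le_left) m hm φ₀ hφ₀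
    intro x
    have h1 : φ (Subgroup.inclusion inf_le_left x) = ((a ⟨φ₀ x, hφ₀T x⟩ : T) : Ω) := hv x (hφ₀T x)
    have h2 := hmv (a ⟨φ₀ x, hφ₀T x⟩)
    rw [MulAut.mul_apply, MulAut.inv_apply_self] at h2
    show ((α' ⟨φ (Subgroup.inclusion inf_le_left x), _⟩ : S) : Ω) = _
    rw [h2]
    congr 2
    exact Subtype.ext h1
  refine ⟨S.subtype.comp (α'⁻¹ : MulAut S).toMonoidHom,
    (Fusion.mem_autGroup_iff F le_rfl _).mp (Subgroup.inv_mem _ hα'), _, hφ₁o, fun x => ?_⟩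
  show φ x = (((α'⁻¹ : MulAut S) ⟨((α' ⟨φ x, hφS x⟩ : S) : Ω), _⟩ : S) : Ω)
  have : (⟨((α' ⟨φ x, hφS x⟩ : S) : Ω), (α' ⟨φ x, hφS x⟩).2⟩ : S) = α' ⟨φ x, hφS x⟩ := rfl
  rw [this, MulAut.inv_apply_self]

/-- The `p`-elements of the automorphism groups of `F` belong to the auxiliary system. -/
theorem pElement_mem_olvSys [Finite S] [Finite T] (p : ℕ) [Fact p.Prime] (hS : IsPGroup p S)
    (hF : F.IsSaturated p) (h : Setup F E K) {R : Subgroup Ω} (hRS : R ≤ S) (θ : MulAut R)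
    (hθ : θ ∈ F.autGroup R) (k : ℕ) (hk : orderOf θ = p ^ k) :
    θ ∈ (olvSys h).autGroup R := pElement_mem_all p hS F hF (olvSys h) (olvSys_good p hS hF h) hRS θ hθ k hk

end Cfsg.Agent.OLV
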