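import Mathlib
import Cfsg.Prelude.Def_FusionComponents
import Cfsg.Agent.OLV.Basic
import Cfsg.Agent.OLV.Props
import Cfsg.Agent.OLV.Frat
import Cfsg.Agent.OLV.Gen
import Cfsg.Agent.OLV.NormalGen
import Cfsg.Agent.OLV.ELe

set_option autoImplicit false

/-!
# S5243, piece (5) (helper8): the generated system `olvF0` contains `E`

`olv_E_le` (file `ELe`) applied to `F₀ = olvF0 h`: the index of `olvF0 h` in `F` is prime to `p`
(`olv_gen_main`), and `olvF0 h` contains the auxiliary system on the family `olvH`.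
-/

namespace Cfsg.Agent.OLV

open Cfsg Cfsg.FusionSystem Cfsg.Agent.Lead Cfsg.Agent.Lead.StrongInv Cfsg.Agent.Lead.PrimeIdx

variable {Ω : Type*} [Group Ω] {S T : Subgroup Ω}
variable {F : FusionSystem S} {E : FusionSystem T} {K : Subgroup (MulAut T)}

/-- The index of the generated system in `F` is prime to `p`. -/
theorem olvF0_hasPrimeToPIndexIn [Finite S] [Finite T] (p : ℕ) [Fact p.Prime] (hS : IsPGroup p S)
    (hF : F.IsSaturated p) (hE : E.IsNormalIn F p) (h : Setup F E K) :
    (olvF0 h).HasPrimeToPIndexIn F p :=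
  (olv_gen_main p hS F hF (olvSys h) (olvF0 h) (olvH F E) (olvF0_le h) (olvSys_le_olvF0 h)
    (fun _ hPc hPr => olvH_of_centric_radical p hS hF hE hPc hPr)
    (fun _ hPS α hα k hk => pElement_mem_olvSys p hS hF h hPS α hα k hk)).1

/-- The generated system contains `E`. -/
theorem olvF0_contains [Finite S] [Finite T] (p : ℕ) [Fact p.Prime] (hS : IsPGroup p S)
    (hF : F.IsSaturated p) (hE : E.IsNormalIn F p) (h : Setup F E K) :
    E.IsSubsystemOf (olvF0 h) :=
  olv_E_le p hS h hE (olvF0 h) (olvF0_hasPrimeToPIndexIn p hS hF hE h)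
    (fun P hPc hPT => olvSys_le_olvF0 h P ⟨hPc, hPT⟩)

end Cfsg.Agent.OLV
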