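import Mathlib
import Cfsg.Prelude.Def_FusionComponents
import Cfsg.Agent.OLV.Basic
import Cfsg.Agent.OLV.Props
import Cfsg.Agent.OLV.Frat
import Cfsg.Agent.OLV.SetupChi

/-!
S5243 (Oliver's lemma), piece (3) `honto` (helper1): every element of `Δ` is the image under `χ` of
the restriction to `T` of an automorphism of `S` in `F`.  This is the hypothesis `honto` of
`olv_assembly`, obtained from `olv_exists_extend` (Frat.lean) and the surjectivity of `χ`.
-/

set_option autoImplicit false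

namespace Cfsg.Agent.OLV

open Cfsg Cfsg.FusionSystem Cfsg.Agent.Lead Cfsg.Agent.Lead.StrongInv Cfsg.Agent.Lead.PrimeIdx

variable {Ω : Type*} [Group Ω] {S T : Subgroup Ω}

theorem olv_honto [Finite S] (p : ℕ) [Fact p.Prime] (hS : IsPGroup p S)
    (F : FusionSystem S) (hF : F.IsSaturated p) (hTS : T ≤ S) (E : FusionSystem T)
    {Δ : Type*} [Group Δ] (χ : ↥(F.autGroup T) →* Δ) (hχ : Function.Surjective χ)
    (hset : Setup F E (olvKer F χ)) :
    ∀ δ : Δ, ∃ α ∈ F.autGroup S, ∃ β : ↥(F.autGroup T), χ β = δ ∧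
      ∀ t : ↥T, (((β : MulAut ↥T) t : ↥T) : Ω) = ((α ⟨(t : Ω), hTS t.2⟩ : ↥S) : Ω) := by
  intro δ
  obtain ⟨b, hb⟩ := hχ δ
  obtain ⟨m, hm, α, hα, hv⟩ := olv_exists_extend p hS hF hset (b : MulAut T) b.2
  obtain ⟨hmF, hm1⟩ := (mem_olvKer F χ m).mp hm
  refine ⟨α, hα, ⟨m, hmF⟩ * b, ?_, ?_⟩
  · rw [map_mul, hm1, one_mul, hb]
  · intro t
    exact hv t

end Cfsg.Agent.OLV
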