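import Mathlib
import Cfsg.Prelude.Def_FusionComponents
import Cfsg.Agent.OLV.Basic
import Cfsg.Agent.OLV.Props
import Cfsg.Agent.OLV.Frat
import Cfsg.Agent.OLV.Gen
import Cfsg.Agent.OLV.NormalGen
import Cfsg.Agent.Lead.FusionPStable
import Cfsg.Agent.Lead.FusionConj

set_option autoImplicit false

/-!
# S5243, the `hstar` hypothesis of the saturation criterion for `olvF0` (helper8)

A subgroup `P` which is centric in `olvF0 h` but not in the family `olvH F E` has an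
`olvF0`-conjugate `Q` such that `Aut_S(Q) ∩ O_p(Aut_{olvF0}(Q))` is not contained in `Inn(Q)`.
-/

namespace Cfsg.Agent.OLV

open Cfsg Cfsg.FusionSystem Cfsg.Agent.Lead Cfsg.Agent.Lead.StrongInv Cfsg.Agent.Lead.PrimeIdx

variable {Ω : Type*} [Group Ω] {S T : Subgroup Ω}

/-- Conjugation by an element of `S` outside `Q` is not inner on `Q` when `C_S(Q) ≤ Q`. -/
theorem olv_conjAutHom_not_inn {Q : Subgroup Ω} (hQS : Q ≤ S) (hc : centralizerIn S Q ≤ Q)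
    {g : Ω} (hgS : g ∈ S) (hgN : g ∈ Subgroup.normalizer (Q : Set Ω)) (hgQ : g ∉ Q) :
    conjAutHom Q ⟨g, hgN⟩ ∉ Inn Q := by
  rintro ⟨x, hx⟩
  apply hgQ
  have hcomm : (x : Ω)⁻¹ * g ∈ centralizerIn S Q := by
    refine Subgroup.mem_inf.mpr ⟨S.mul_mem (S.inv_mem (hQS x.2)) hgS, ?_⟩
    rw [Subgroup.mem_centralizer_iff]
    intro y hy
    have h2 := congrArg (fun β : MulAut Q => ((β ⟨y, hy⟩ : Q) : Ω)) hx
    have h3 : (x : Ω) * y * (x : Ω)⁻¹ = g * y * g⁻¹ := h2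
    calc y * ((x : Ω)⁻¹ * g) = (x : Ω)⁻¹ * ((x : Ω) * y * (x : Ω)⁻¹) * g := by group
      _ = (x : Ω)⁻¹ * (g * y * g⁻¹) * g := by rw [h3]
      _ = (x : Ω)⁻¹ * g * y := by group
  have h4 := hc hcomm
  have h5 : g = (x : Ω) * ((x : Ω)⁻¹ * g) := by group
  rw [h5]
  exact Q.mul_mem x.2 h4

/-- Transport of the `hstar` witness through a Frattini factorisation `φ = a ∘ φ₁`. -/
theorem olv_star_transport [Finite S] (p : ℕ) [Fact p.Prime] (F F₀ : FusionSystem S)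
    (hF0F : F₀.IsSubsystemOf F) {P : Subgroup Ω} (hPc : F.IsCentric P)
    {φ : P →* Ω} (hφ : φ ∈ F.Hom P) (a : MulAut S) (ha : a ∈ F.autGroup S)
    {φ₁ : P →* Ω} (hφ₁ : φ₁ ∈ F₀.Hom P)
    (hv : ∀ (x : P) (hx : φ₁ x ∈ S), φ x = ((a ⟨φ₁ x, hx⟩ : S) : Ω))
    {x : Ω} (hx : x ∈ S ⊓ Subgroup.normalizer (φ.range : Set Ω)) (hxP : x ∉ φ.range)
    (α : MulAut ↥φ.range)
    (hα : α ∈ ((Cfsg.pCore p ↥(F.autGroup φ.range)).map (F.autGroup φ.range).subtype :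
        Subgroup (MulAut ↥φ.range)))
    (hαx : ∀ y : ↥φ.range, ((α y : ↥φ.range) : Ω) = x * (y : Ω) * x⁻¹) :
    ¬ (autInducedBy S φ₁.range ⊓
      (pCore p ↥(F₀.autGroup φ₁.range)).map (F₀.autGroup φ₁.range).subtype ≤ Inn φ₁.range) := by
  have hxS : x ∈ S := (Subgroup.mem_inf.mp hx).1
  have hxN : x ∈ Subgroup.normalizer (φ.range : Set Ω) := (Subgroup.mem_inf.mp hx).2
  have hφ₁F : φ₁ ∈ F.Hom P := hF0F P hφ₁
  have hφ₁S : ∀ z : P, φ₁ z ∈ S := fun z => Fusion.map_mem F hφ₁F z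
  have hQS : φ₁.range ≤ S := Fusion.range_le F hφ₁F
  have hQc : F.IsCentric φ₁.range := Fusion.isCentric_of_isConj F hPc ⟨φ₁, hφ₁F, rfl⟩
  have haF := (Fusion.mem_autGroup_iff F le_rfl a).mp ha
  -- the restriction of `a` to `Q = φ₁(P)`
  obtain ⟨ρ, hρdef⟩ : ∃ ρ : ↥φ₁.range →* Ω,
      ρ = (S.subtype.comp a.toMonoidHom).comp (Subgroup.inclusion hQS) := ⟨_, rfl⟩
  have hρ : ρ ∈ F.Hom φ₁.range := by
    rw [hρdef]
    exact Fusion.restrict_mem F haF hQS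
  have hρv : ∀ q : ↥φ₁.range, ρ q = ((a ⟨q, hQS q.2⟩ : S) : Ω) := by
    intro q
    rw [hρdef]
    rfl
  have hr : ρ.range = φ.range := by
    ext y
    constructor
    · rintro ⟨⟨q, z, rfl⟩, rfl⟩
      refine ⟨z, ?_⟩
      rw [hv z (hφ₁S z), hρv]
    · rintro ⟨z, rfl⟩
      refine ⟨⟨φ₁ z, ⟨z, rfl⟩⟩, ?_⟩
      rw [hv z (hφ₁S z), hρv]
  obtain ⟨e, hedef⟩ : ∃ e : ↥φ₁.range ≃* ↥φ.range,
      e = Fusion.equivOfRange ρ (F.injective_of_mem hρ) hr := ⟨_, rfl⟩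
  have hev : ∀ q : ↥φ₁.range, ((e q : ↥φ.range) : Ω) = ((a ⟨q, hQS q.2⟩ : S) : Ω) := by
    intro q
    rw [hedef, Fusion.equivOfRange_coe, hρv]
  -- the element `x' = a⁻¹ x`
  obtain ⟨x', hx'def⟩ : ∃ x' : S, x' = a⁻¹ ⟨x, hxS⟩ := ⟨_, rfl⟩
  have hax' : a x' = ⟨x, hxS⟩ := by
    rw [hx'def, MulAut.apply_inv_self]
  -- conjugation by `x'` on `Q` corresponds to conjugation by `x` on `φ(P)`
  have hconj : ∀ q : ↥φ₁.range, ∃ hq' : (x' : Ω) * q * (x' : Ω)⁻¹ ∈ φ₁.range,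
      ((e ⟨(x' : Ω) * q * (x' : Ω)⁻¹, hq'⟩ : ↥φ.range) : Ω) = x * ((e q : ↥φ.range) : Ω) * x⁻¹ := by
    intro q
    have h1 : x * ((e q : ↥φ.range) : Ω) * x⁻¹ ∈ φ.range := by
      have := (Subgroup.mem_normalizer_iff.mp hxN ((e q : ↥φ.range) : Ω)).mp (e q).2
      exact this
    obtain ⟨q', hq'⟩ : ∃ q' : ↥φ₁.range, ((e q' : ↥φ.range) : Ω) = x * ((e q : ↥φ.range) : Ω) * x⁻¹ :=
      ⟨e.symm ⟨_, h1⟩, by rw [MulEquiv.apply_symm_apply]⟩
    have h2 : ((a ⟨q', hQS q'.2⟩ : S) : Ω) =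
        ((a (x' * ⟨q, hQS q.2⟩ * x'⁻¹) : S) : Ω) := by
      rw [← hev q', hq', hev q, map_mul, map_mul, map_inv, hax']
      rfl
    have h3 : (⟨q', hQS q'.2⟩ : S) = x' * ⟨q, hQS q.2⟩ * x'⁻¹ :=
      a.injective (Subtype.ext h2)
    have h4 : (q' : Ω) = (x' : Ω) * q * (x' : Ω)⁻¹ := congrArg Subtype.val h3
    refine ⟨h4 ▸ q'.2, ?_⟩
    rw [← hq']
    congr 2
    exact Subtype.ext h4.symm
  have hx'N : (x' : Ω) ∈ Subgroup.normalizer (φ₁.range : Set Ω) := by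
    have key : ∀ s : S, (∀ q : ↥φ₁.range, (s : Ω) * q * (s : Ω)⁻¹ ∈ φ₁.range) →
        (s : Ω) ∈ Subgroup.normalizer (φ₁.range : Set Ω) := by
      intro s hs
      haveI : Finite ↥φ₁.range := Fusion.finite_of_le hQS
      rw [Subgroup.mem_normalizer_iff]
      intro y
      constructor
      · intro hy
        exact hs ⟨y, hy⟩
      · intro hy
        -- conjugation by `s` is an injective self-map of the finite set `Q`, hence onto
        have hinj : Function.Injective (fun q : ↥φ₁.range =>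
            (⟨(s : Ω) * q * (s : Ω)⁻¹, hs q⟩ : ↥φ₁.range)) := by
          intro q1 q2 h12
          have := congrArg Subtype.val h12
          simp only [mul_left_inj, mul_right_inj] at this
          exact Subtype.ext this
        obtain ⟨q, hq⟩ := (Finite.injective_iff_surjective.mp hinj) ⟨_, hy⟩
        have h1 := congrArg Subtype.val hq
        simp only [mul_left_inj, mul_right_inj] at h1
        rw [← h1]
        exact q.2
    exact key x' (fun q => (hconj q).1)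
  have hx'Q : (x' : Ω) ∉ φ₁.range := by
    intro hx'Q
    apply hxP
    have h1 := hev ⟨x', hx'Q⟩
    have h2 : (⟨(x' : Ω), hQS hx'Q⟩ : S) = x' := rfl
    rw [h2, hax'] at h1
    have h3 : ((e ⟨x', hx'Q⟩ : ↥φ.range) : Ω) = x := h1
    rw [← h3]
    exact (e ⟨x', hx'Q⟩).2
  intro hle
  have hγS : conjAutHom φ₁.range ⟨x', hx'N⟩ ∈ autInducedBy S φ₁.range :=
    Fusion.conjAutHom_mem_autInducedBy φ₁.range _ x'.2
  have hγ0 : conjAutHom φ₁.range ⟨x', hx'N⟩ ∈ F₀.autGroup φ₁.range :=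
    Fusion.autInducedBy_le_autGroup F₀ hQS hγS
  have hcγ : MulAut.congr e (conjAutHom φ₁.range ⟨x', hx'N⟩) = α := by
    ext y
    rw [hαx]
    show ((e (conjAutHom φ₁.range ⟨x', hx'N⟩ (e.symm y)) : ↥φ.range) : Ω) = _
    obtain ⟨hq', hq'v⟩ := hconj (e.symm y)
    have h1 : conjAutHom φ₁.range ⟨x', hx'N⟩ (e.symm y) =
        ⟨(x' : Ω) * (e.symm y : ↥φ₁.range) * (x' : Ω)⁻¹, hq'⟩ := Subtype.ext rfl
    rw [h1, hq'v, MulEquiv.apply_symm_apply]
  have hγp : conjAutHom φ₁.range ⟨x', hx'N⟩ ∈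
      (pCore p ↥(F₀.autGroup φ₁.range)).map (F₀.autGroup φ₁.range).subtype := by
    apply Cfsg.Agent.Lead.PStab.mem_pCore_of_map p (MulAut.congr e).toMonoidHom
      (MulAut.congr e).injective (F₀.autGroup φ₁.range) (F.autGroup φ.range) ?_ _ hγ0
    · show MulAut.congr e (conjAutHom φ₁.range ⟨x', hx'N⟩) ∈ _
      rw [hcγ]
      exact hα
    · intro b hb
      show MulAut.congr e b ∈ F.autGroup φ.range
      rw [hedef]
      exact Fusion.congr_mem_autGroup F hρ hr b (Fusion.autGroup_mono hF0F _ hb)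
  exact olv_conjAutHom_not_inn hQS (hQc.2 _ (Fusion.isConj_refl F hQS)) x'.2 hx'N hx'Q
    (hle (Subgroup.mem_inf.mpr ⟨hγS, hγp⟩))

section main

variable {F : FusionSystem S} {E : FusionSystem T} {K : Subgroup (MulAut T)}

/-- The `hstar` hypothesis of `Bcglo.saturated_of_generated` for `olvF0 h` and the family `olvH`. -/
theorem olvF0_star [Finite S] [Finite T] (p : ℕ) [Fact p.Prime] (hS : IsPGroup p S)
    (hF : F.IsSaturated p) (hE : E.IsNormalIn F p) (h : Setup F E K) (P : Subgroup Ω)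
    (hPc : (olvF0 h).IsCentric P) (hPn : P ∉ olvH F E) :
    ∃ Q, (olvF0 h).IsConj P Q ∧
      ¬ (autInducedBy S Q ⊓
        (pCore p ↥((olvF0 h).autGroup Q)).map ((olvF0 h).autGroup Q).subtype ≤ Inn Q) := by
  obtain ⟨-, hfrat, hcen⟩ := olv_gen_main p hS F hF (olvSys h) (olvF0 h) (olvH F E) (olvF0_le h)
    (olvSys_le_olvF0 h) (fun _ hc hr => olvH_of_centric_radical p hS hF hE hc hr)
    (fun _ hPS α hα k hk => pElement_mem_olvSys p hS hF h hPS α hα k hk)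
  have hPcF : F.IsCentric P := (hcen P).mp hPc
  have hPT : ¬ E.IsCentric (P ⊓ T) := fun hc => hPn ⟨hPcF, hc⟩
  obtain ⟨⟨φ, hφ, x, hx, hxP, α, hα, hαx⟩, -⟩ := Fusion.s5251 p hS F hF E hE P hPcF hPT
  obtain ⟨a, ha, φ₁, hφ₁, hv⟩ := hfrat P φ hφ
  exact ⟨φ₁.range, ⟨φ₁, hφ₁, rfl⟩,
    olv_star_transport p F (olvF0 h) (olvF0_le h) hPcF hφ a ha hφ₁ hv hx hxP α hα hαx⟩

end main

end Cfsg.Agent.OLV
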