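import Mathlib
import Cfsg.Prelude.Def_FusionComponents
import Cfsg.Agent.OLV.Gen
import Cfsg.Agent.OLV.Frat
import Cfsg.Agent.OLV.ClaimC1
import Cfsg.Agent.OLV.HConj
import Cfsg.Agent.OLV.NormalGen
import Cfsg.Agent.OLV.Star
import Cfsg.Agent.Helper2.PPrimeResB
import Cfsg.Agent.Helper6.BcgloK

set_option autoImplicit false

/-!
# S5243: the generated system is saturated

Application of `Bcglo.saturated_of_generated` to `olvF0 h` with the family `olvH F E`, following the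
proof of `resSys_isSaturated`; the condition on the centric subgroups outside the family is
`olvF0_star`.
-/

namespace Cfsg.Agent.OLV

open Cfsg Cfsg.FusionSystem Cfsg.Agent.Lead Cfsg.Agent.Lead.StrongInv Cfsg.Agent.Lead.PrimeIdx
open Cfsg.Agent.Helper2.PPrimeRes

variable {Ω : Type*} [Group Ω] {S T : Subgroup Ω}
variable {F : FusionSystem S} {E : FusionSystem T} {K : Subgroup (MulAut T)}

theorem olvF0_isSaturated_of_star [Finite S] [Finite T] (p : ℕ) [Fact p.Prime] (hS : IsPGroup p S)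
    (hF : F.IsSaturated p) (hE : E.IsNormalIn F p) (h : Setup F E K)
    (hstar : ∀ P : Subgroup Ω, (olvF0 h).IsCentric P → P ∉ olvH F E → ∃ Q, (olvF0 h).IsConj P Q ∧
      ¬ (autInducedBy S Q ⊓ (pCore p ↥((olvF0 h).autGroup Q)).map ((olvF0 h).autGroup Q).subtype
        ≤ Inn Q)) :
    (olvF0 h).IsSaturated p := by
  have hB : ∀ P : Subgroup Ω, P ≤ S → ∀ a ∈ F.autGroup P, ∀ k : ℕ, orderOf a = p ^ k →
      a ∈ (olvSys h).autGroup P := fun _ hPS α hα k hk => pElement_mem_olvSys p hS hF h hPS α hα k hk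
  apply Cfsg.Agent.Helper6.Bcglo.saturated_of_generated p hS (olvF0 h) (olvH F E)
  · exact fun P hP => hP.1.1
  · intro P hP Q hPQ
    obtain ⟨φ, hφ, hr⟩ := hPQ
    exact olvH_conj h hP ⟨φ, olvF0_le h P hφ, hr⟩
  · intro P hP
    obtain ⟨Q0, ⟨φ, hφ, hr⟩, hQ0fn⟩ := Fusion.exists_isConj_fullyNormalized F hP.1.1
    obtain ⟨γ, hγ, φ₀, hφ₀, hv'⟩ := olvSys_good p hS hF h P φ hφ
    have hrγ : γ.range = S := (Fusion.weaklyClosed_of_stronglyClosed F (stronglyClosed_top F)).2 γ hγ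
    obtain ⟨α, hα, hαv⟩ := Fusion.exists_aut_of_range_eq F hγ hrγ
    have hφ₀S : ∀ x : P, φ₀ x ∈ S := ((olvSys h).le_of_mem hφ₀).2
    have hv : ∀ (x : P) (hx : φ₀ x ∈ S), φ x = ((α ⟨φ₀ x, hx⟩ : S) : Ω) := by
      intro x hx
      rw [hαv]
      exact hv' x
    have hφ₀F : φ₀ ∈ F.Hom P := olvSys_le h P hφ₀
    have hφ₀R : φ₀ ∈ (olvF0 h).Hom P := olvSys_le_olvF0 h P hP hφ₀
    have hPQ : F.IsConj P φ₀.range := ⟨φ₀, hφ₀F, rfl⟩
    have hQS : φ₀.range ≤ S := Fusion.isConj_tgt_le F hPQ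
    have hQH : φ₀.range ∈ olvH F E := olvH_conj h hP hPQ
    have hφS : ∀ x : P, φ x ∈ S := fun x => Fusion.map_mem F hφ x
    have hkey : ∀ x : P, α⁻¹ ⟨φ x, hφS x⟩ = ⟨φ₀ x, hφ₀S x⟩ := by
      intro x
      have : (⟨φ x, hφS x⟩ : S) = α ⟨φ₀ x, hφ₀S x⟩ := Subtype.ext (hv x (hφ₀S x))
      rw [this, MulAut.inv_apply_self]
    have hQfn : F.IsFullyNormalized φ₀.range := by
      refine ⟨hQS, fun Q' hQQ' => ?_⟩
      have h1 : F.IsConj Q0 Q' :=
        Fusion.isConj_trans F (Fusion.isConj_symm F ⟨φ, hφ, hr⟩) (Fusion.isConj_trans F hPQ hQQ')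
      refine (hQ0fn.2 Q' h1).trans ?_
      apply card_normalizerIn_le_of_aut α⁻¹ hQ0fn.1
      intro z
      constructor
      · rintro ⟨x, rfl⟩
        exact ⟨φ x, hr ▸ ⟨x, rfl⟩, congrArg Subtype.val (hkey x)⟩
      · rintro ⟨r, hr', rfl⟩
        rw [← hr] at hr'
        obtain ⟨x, rfl⟩ := hr'
        exact ⟨x, (congrArg Subtype.val (hkey x)).symm⟩
    obtain ⟨hfc, hfa⟩ := Fusion.fullyCentralized_fullyAutomized_of_fullyNormalized p hS F hF hQfn
    have hrec := Fusion.receptive_of_fullyCentralized p hS F hF hfc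
    refine ⟨φ₀.range, ⟨φ₀, hφ₀R, rfl⟩,
      fullyAutomized_of_subsystem p hS F _ (olvF0_le h) hfa, hQS, ?_⟩
    intro R φ' hφ' hr'
    have hφ'F := olvF0_le h R hφ'
    obtain ⟨ψ, hψ, hext⟩ := hrec.2 R φ' hφ'F hr'
    have hRS : R ≤ S := Fusion.src_le F hφ'F
    have hRH : R ∈ olvH F E := olvH_conj h hQH (Fusion.isConj_symm F ⟨φ', hφ'F, hr'⟩)
    have hRN : R ≤ extender S R φ' :=
      Fusion.le_extender R hRS φ' (fun x => Fusion.map_mem F hφ'F x)
    have hNS : extender S R φ' ≤ S := Fusion.src_le F hψ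
    have hNH : extender S R φ' ∈ olvH F E := olvH_of_le hRH hRN hNS
    have hres : ψ.comp (Subgroup.inclusion hRN) ∈ (olvSys h).Hom R := by
      have : ψ.comp (Subgroup.inclusion hRN) = φ' := by
        ext x
        exact hext x.1 x.2 (hRN x.2)
      rw [this]
      exact olvF0_le_olvSys h R hφ'
    have hψo := olv_going_up_setup p hS h hE.1.1 hB hψ hRN hRH.2 hres
    exact ⟨ψ, olvSys_le_olvF0 h _ hNH hψo, hext⟩
  · intro D hD P φ hφ
    have hfam : ∀ P ∈ olvH F E, (olvSys h).Hom P ⊆ (interSys F {D}).Hom P := by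
      intro P hP φ hφ
      refine ⟨olvSys_le h P hφ, fun D' hD' => ?_⟩
      rw [Set.mem_singleton_iff] at hD'
      subst hD'
      exact hD P hP (olvSys_le_olvF0 h P hP hφ)
    exact (olvF0_min h _ hfam P hφ).2 D rfl
  · exact hstar

/-- The generated system is saturated. -/
theorem olvF0_isSaturated [Finite S] [Finite T] (p : ℕ) [Fact p.Prime] (hS : IsPGroup p S)
    (hF : F.IsSaturated p) (hE : E.IsNormalIn F p) (h : Setup F E K) :
    (olvF0 h).IsSaturated p :=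
  olvF0_isSaturated_of_star p hS hF hE h (olvF0_star p hS hF hE h)

end Cfsg.Agent.OLV
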