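import Mathlib
import Cfsg.Prelude.Def_FusionSystem
import Cfsg.Agent.OLV.Props

set_option autoImplicit false

/-!
# S5243: the auxiliary system `olvSys` is stable under the `F`-automorphisms of `S`
-/

namespace Cfsg.Agent.OLV

open Cfsg Cfsg.FusionSystem Cfsg.Agent.Lead Cfsg.Agent.Lead.StrongInv Cfsg.Agent.Lead.PrimeIdx

variable {Ω : Type*} [Group Ω] {S T : Subgroup Ω}
variable {F : FusionSystem S} {E : FusionSystem T} {K : Subgroup (MulAut T)}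

/-- Transport of a map of `F` along a map of `F` defined on a subgroup `T'` containing its source
and its image. -/
theorem olv_transport_F (F : FusionSystem S) {T' P : Subgroup Ω} (hPT : P ≤ T') {φ : P →* Ω}
    (hφ : φ ∈ F.Hom P) (hφT : ∀ x : P, φ x ∈ T') {ψ : T' →* Ω} (hψ : ψ ∈ F.Hom T') :
    ∃ χ ∈ F.Hom ((P.subgroupOf T').map ψ),
      ∀ (x : P) (hx : ψ (Subgroup.inclusion hPT x) ∈ (P.subgroupOf T').map ψ),
        χ ⟨ψ (Subgroup.inclusion hPT x), hx⟩ = ψ ⟨φ x, hφT x⟩ := by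
  have hψP := Fusion.restrict_mem F hψ hPT
  have hr : (ψ.comp (Subgroup.inclusion hPT)).range = (P.subgroupOf T').map ψ :=
    range_restrict hPT ψ
  obtain ⟨η, hη, hηinv, hηr⟩ := Fusion.exists_inv F hψP hr
  have hηP : ∀ y : ↥((P.subgroupOf T').map ψ), η y ∈ P := fun y => (le_of_eq hηr) ⟨y, rfl⟩
  have h1 := F.comp_mem hη hφ hηP
  have h1T : ∀ y : ↥((P.subgroupOf T').map ψ), (φ.comp (η.codRestrict P hηP)) y ∈ T' :=
    fun y => hφT _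
  have h2 := F.comp_mem h1 hψ h1T
  refine ⟨_, h2, fun x hx => ?_⟩
  show ψ ⟨φ ⟨η ⟨ψ (Subgroup.inclusion hPT x), hx⟩, _⟩, _⟩ = ψ ⟨φ x, hφT x⟩
  have e1 : η ⟨ψ (Subgroup.inclusion hPT x), hx⟩ = (x : Ω) := hηinv x hx
  have e2 : (⟨η ⟨ψ (Subgroup.inclusion hPT x), hx⟩, hηP _⟩ : P) = x := Subtype.ext e1
  congr 2
  rw [e2]

/-- The system `olvT` over `T` is stable under the `F`-automorphisms of `T`. -/
theorem olvT_SItop [Finite S] [Finite T] (h : Setup F E K) : SItop F (olvT h) := by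
  intro Q hQT θ hθ hθT ψ hψ
  obtain ⟨k, hk, θ₀, hθ₀, hv⟩ := exists_of_mem_olvT h hθ
  have hr : ψ.range = T := (Fusion.weaklyClosed_of_stronglyClosed F h.sc).2 ψ hψ
  obtain ⟨a, ha, hav⟩ := Fusion.exists_aut_of_range_eq F hψ hr
  have hθ₀T : ∀ x : Q, θ₀ x ∈ T := fun x => (E.le_of_mem hθ₀).2 x
  obtain ⟨χ₀, hχ₀, hχ₀v⟩ := olv_SItop_F h Q hQT θ₀ hθ₀ hθ₀T ψ hψ
  obtain ⟨χ, hχ, hχv⟩ := olv_transport_F F hQT (olvT_le h Q hθ) hθT hψ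
  refine ⟨χ, ?_, hχv⟩
  refine mem_olvT_of_eq h hχ (a * k * a⁻¹) (h.Knormal a ha k hk) χ₀ hχ₀ ?_
  rintro ⟨y, hy⟩
  obtain ⟨x, rfl⟩ := exists_of_mem_img hQT ψ hy
  rw [hχv x hy]
  have e0 : (⟨χ₀ ⟨ψ (Subgroup.inclusion hQT x), hy⟩, (E.le_of_mem hχ₀).2 _⟩ : T) =
      a ⟨θ₀ x, hθ₀T x⟩ := by
    apply Subtype.ext
    rw [hav]
    exact hχ₀v x hy
  rw [e0, MulAut.mul_apply, MulAut.mul_apply, MulAut.inv_apply_self, hav]
  congr 1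
  apply Subtype.ext
  show θ x = _
  rw [hv x]

/-- The auxiliary system `olvSys` is stable under the `F`-automorphisms of `S`. -/
theorem olvSys_SItop [Finite S] [Finite T] (h : Setup F E K) : SItop F (olvSys h) := by
  intro P hPS φ hφ hφS ψ hψ
  obtain ⟨hφF, hφT⟩ := hφ
  obtain ⟨χ, hχ, hχv⟩ := olv_transport_F F hPS hφF hφS hψ
  refine ⟨χ, ⟨hχ, ?_⟩, hχv⟩
  -- the restriction of `ψ` to `T`
  have hψT := Fusion.restrict_mem F hψ h.le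
  set ψT : T →* Ω := ψ.comp (Subgroup.inclusion h.le) with hψTdef
  -- `ψ x ∈ T` only if `x ∈ T`
  obtain ⟨η, hη, hηinv, -⟩ := Fusion.exists_inv F hψ (rfl : ψ.range = ψ.range)
  have hback : ∀ s : S, ψ s ∈ T → (s : Ω) ∈ T := by
    intro s hs
    have h1 := Fusion.map_mem_of_stronglyClosed F h.sc hη ⟨ψ s, ⟨s, rfl⟩⟩ hs
    rwa [hηinv s ⟨s, rfl⟩] at h1
  have hR' : ∀ z, z ∈ (P.subgroupOf S).map ψ ⊓ T ↔
      ∃ (r : Ω) (hr : r ∈ P ⊓ T), ψT ⟨r, (inf_le_right : P ⊓ T ≤ T) hr⟩ = z := by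
    intro z
    constructor
    · intro hz
      obtain ⟨hz1, hz2⟩ := Subgroup.mem_inf.mp hz
      obtain ⟨x, rfl⟩ := exists_of_mem_img hPS ψ hz1
      have hxT : (x : Ω) ∈ T := hback _ hz2
      exact ⟨x, Subgroup.mem_inf.mpr ⟨x.2, hxT⟩, rfl⟩
    · rintro ⟨r, hr, rfl⟩
      obtain ⟨hrP, hrT⟩ := Subgroup.mem_inf.mp hr
      exact Subgroup.mem_inf.mpr ⟨mem_img hPS ψ ⟨r, hrP⟩,
        h.sc.2 T le_rfl ψT hψT ⟨r, hrT⟩⟩
  obtain ⟨χ', hχ', hχ'v⟩ := conj_of_SItop F (olvT h) (olvT_SItop h)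
    (inf_le_right : P ⊓ T ≤ T) hφT hψT _ hR'
  convert hχ' using 1
  ext ⟨z, hz⟩
  obtain ⟨r, hr, rfl⟩ := (hR' z).mp hz
  rw [hχ'v r hr hz]
  obtain ⟨hrP, hrT⟩ := Subgroup.mem_inf.mp hr
  exact hχv ⟨r, hrP⟩ (Subgroup.mem_inf.mp hz).1

end Cfsg.Agent.OLV
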